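import Groth.Agent.Lib.BCPerf20.BddAbove
import Groth.Agent.Lib.OX.OneDegLocus
import Groth.Agent.Lib.OX.TildeBaseChange
import Groth.Agent.Lib.OX.Adjunction

/-! # Affine base change and charts for direct images -/

set_option autoImplicit false
set_option maxHeartbeats 1000000
set_option linter.style.haveILetI false
set_option backward.isDefEq.respectTransparency false
universe u

open CategoryTheory CategoryTheory.Limits CategoryTheory.Pretriangulated AlgebraicGeometry HomologicalComplex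

attribute [local instance] HasDerivedCategory.standard

noncomputable section

namespace GrothLib.BCPerf20

open GrothLib.OX GrothLib.TorBC25

variable {X Y S : Scheme.{u}}

section Affine

variable {A : Type u} [CommRing A] (f : X ⟶ Spec (CommRingCat.of A)) [QuasiCompact f] [IsSeparated f]
  {B : Type u} [CommRing B] (φ : A →+* B) {X' : Scheme.{u}} (f' : X' ⟶ Spec (CommRingCat.of B))
  (g : X' ⟶ X)

/-- **Base change between affine bases** for bounded above complexes of relatively flat quasi-coherent modules. -/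
theorem nonempty_lpull_RR_iso (H : IsPullback g f' f (Spec.map (CommRingCat.ofHom φ)))
    (T : CochainComplex X.Modules ℤ) (hq : ∀ i, Coh.IsQCoh (T.X i))
    (b : ℤ) (hb : ∀ i, b < i → IsZero (T.X i)) (hfl : ∀ i, FlatMod.IsFlatOver f (T.X i))
    [DCoh.HasLpull (specHom φ)] :
    Nonempty ((DCoh.Lpull (specHom φ)).obj ((RR f).obj (DerivedCategory.Q.obj T)) ≅
      (RR f').obj (DerivedCategory.Q.obj ((HTor.pullCx g).obj T))) := by
  haveI : QuasiCompact f' := MorphismProperty.of_isPullback H (inferInstanceAs (QuasiCompact f))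
  haveI : IsSeparated f' := MorphismProperty.of_isPullback H (inferInstanceAs (IsSeparated f))
  haveI : HTor.HasRΓA f := KInj.hasRightDerivedFunctor (A := X.Modules) _
  haveI : HTor.HasRΓA f' := KInj.hasRightDerivedFunctor (A := X'.Modules) _
  haveI : CompactSpace X := QuasiCompact.compactSpace_of_compactSpace f
  obtain ⟨κ, _, V, hV, -, hcov⟩ := QCoh.exists_finite_affine_cover (U := (⊤ : X.Opens))
    (by simpa using isCompact_univ)
  obtain ⟨m, ⟨eκ⟩⟩ := Finite.exists_equiv_fin κ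
  let U : Fin (m + 1) → X.Opens := Fin.cases ⊥ fun i => V (eκ.symm i)
  have hU : ∀ i, IsAffineOpen (U i) := fun i => by
    cases i using Fin.cases with
    | zero => exact isAffineOpen_bot X
    | succ i => exact hV _
  have hcovU : ⨆ i, U i = ⊤ := top_le_iff.1 <| hcov.trans (iSup_le fun k =>
    le_iSup_of_le (Fin.succ (eκ k)) (by simp [U]))
  obtain ⟨L₀, ⟨e₀⟩, -, hL₀⟩ := BCAcyc22.exists_computes f m U hU hcovU T hq
  obtain ⟨L, u, hfree, hz, hu⟩ := BCAcyc22.exists_free_resolution L₀ (b + m + 1) fun i hi => hL₀ b hb i (by omega)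
  haveI := hu
  have hLp : ∀ i, Module.Projective A (L.X i) := fun i =>
    haveI := hfree i
    Module.Projective.of_free
  have hLc : DRing.VanishesAbove L (b + m + 1) := fun i hi => hz i (by omega)
  have e : HTor.Computes f L (DCoh.toD X T) := ⟨asIso (DerivedCategory.Q.map u) ≪≫ e₀⟩
  obtain ⟨r⟩ := nonempty_RR_iso_tildeD f T hq
  obtain ⟨eL⟩ := e
  obtain ⟨e'⟩ := BCAcyc22.computes_baseChange φ f f' g H T hq ⟨b, hb⟩
    (fun i => BCAcyc22.affFlat_of_isFlatOver f _ (hq i) (hfl i)) L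
    (fun i => (IsProjective.iff_projective (R := A) (L.X i)).1 (hLp i)) ⟨_, hLc⟩ ⟨eL⟩
  haveI : DRing.HasLBaseChange φ := (leftResolvable_baseChange φ).hasLeftDerivedFunctor
  obtain ⟨l⟩ := DR.nonempty_lBase_iso φ hLc (GrothLib.DR.termwiseFlat_of_projective hLp)
  obtain ⟨r'⟩ := nonempty_RR_iso_tildeD f' ((HTor.pullCx g).obj T) (fun i =>
    haveI : (T.X i).IsQuasicoherent := hq i
    FittSheaf.isQuasicoherent_pullback g (T.X i))
  obtain ⟨t⟩ := nonempty_bcTilde_iso φ
  exact ⟨(DCoh.Lpull (specHom φ)).mapIso (r ≪≫ (DCoh.tildeD (CommRingCat.of A)).mapIso eL.symm) ≪≫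
    (t.app _).symm ≪≫ (DCoh.tildeD (CommRingCat.of B)).mapIso (l ≪≫ e') ≪≫ r'.symm⟩

/-- Base change between affine bases for a single module. -/
theorem nonempty_lpull_RR_inD (H : IsPullback g f' f (Spec.map (CommRingCat.ofHom φ)))
    (F : X.Modules) [F.IsQuasicoherent] (hfl : FlatMod.IsFlatOver f F) [DCoh.HasLpull (specHom φ)] :
    Nonempty ((DCoh.Lpull (specHom φ)).obj ((RR f).obj (DCoh.inD X F)) ≅
      (RR f').obj (DCoh.inD X' ((Scheme.Modules.pullback g).obj F))) := by
  let S0 := (HomologicalComplex.single X.Modules (ComplexShape.up ℤ) 0).obj F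
  have hz : ∀ i, i ≠ 0 → IsZero (S0.X i) := fun i hi => HomologicalComplex.isZero_single_obj_X _ _ _ _ hi
  have hq : ∀ i, Coh.IsQCoh (S0.X i) := fun i => by
    by_cases hi : i = 0
    · subst hi
      exact isQCoh_of_iso (HomologicalComplex.singleObjXSelf (ComplexShape.up ℤ) 0 F).symm ‹F.IsQuasicoherent›
    · exact isQCoh_of_iso ((isZero_cokernel_of_epi (𝟙 F)).iso (hz i hi)) (QCoh.isQuasicoherent_cokernel _)
  have hfl0 : ∀ i, FlatMod.IsFlatOver f (S0.X i) := fun i x => by
    by_cases hi : i = 0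
    · subst hi
      refine (RelAmp22.flatOver_iff_relStalk f _ x).2 (flat_of_modIso ((RelAmp22.relStalk f x).mapIso
        (HomologicalComplex.singleObjXSelf (ComplexShape.up ℤ) 0 F).symm) ((RelAmp22.flatOver_iff_relStalk f F x).1 (hfl x)))
    · refine (RelAmp22.flatOver_iff_relStalk f _ x).2 ?_
      haveI := ModuleCat.isZero_iff_subsingleton.1 ((RelAmp22.relStalk f x).map_isZero (hz i hi))
      infer_instance
  obtain ⟨c⟩ := nonempty_lpull_RR_iso f φ f' g H S0 hq 0 (fun i hi => hz i (by omega)) hfl0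
  exact ⟨(DCoh.Lpull (specHom φ)).mapIso ((RR f).mapIso ((DerivedCategory.singleFunctorIsoCompQ X.Modules 0).app F)) ≪≫
    c ≪≫ (RR f').mapIso (DerivedCategory.Q.mapIso
      ((HomologicalComplex.singleMapHomologicalComplex (Scheme.Modules.pullback g) (ComplexShape.up ℤ) 0).app F) ≪≫
      ((DerivedCategory.singleFunctorIsoCompQ X'.Modules 0).app _).symm)⟩

end Affine

/-- Restriction of a module in degree zero. -/
theorem nonempty_resD_inD (j : Y ⟶ X) [IsOpenImmersion j] (F : X.Modules) :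
    Nonempty ((resD j).obj (DCoh.inD X F) ≅ DCoh.inD Y ((Scheme.Modules.pullback j).obj F)) :=
  ⟨((Scheme.Modules.restrictFunctor j).mapDerivedCategorySingleFunctor 0).app F ≪≫
    (DerivedCategory.singleFunctor Y.Modules 0).mapIso ((Scheme.Modules.restrictFunctorIsoPullback j).app F)⟩

/-- Direct images over an affine open of the base, in its standard chart. -/
theorem nonempty_resD_fromSpec_RR (f : X ⟶ S) {V : S.Opens} (hV : IsAffineOpen V) (K : DCoh.D X) :
    Nonempty ((resD hV.fromSpec).obj ((RR f).obj K) ≅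
      (RR ((f ∣_ V) ≫ hV.isoSpec.hom)).obj ((resD (f ⁻¹ᵁ V).ι).obj K)) := by
  let e := hV.isoSpec.hom
  haveI : IsOpenImmersion (inv e ≫ V.ι) := inferInstance
  obtain ⟨c⟩ := nonempty_resD_congr (show hV.fromSpec = inv e ≫ V.ι by simp [e]) ((RR f).obj K)
  obtain ⟨d⟩ := nonempty_resD_comp (inv e) V.ι ((RR f).obj K)
  let M := (RR (f ∣_ V)).obj ((resD (f ⁻¹ᵁ V).ι).obj K)
  let N := (RR e).obj M
  obtain ⟨d'⟩ := nonempty_resD_comp (inv e) e N
  obtain ⟨i⟩ := nonempty_resD_congr (show inv e ≫ e = 𝟙 _ by simp) N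
  let P := DerivedCategory.Q.objPreimage N
  let eN : DerivedCategory.Q.obj P ≅ N := DerivedCategory.Q.objObjPreimageIso N
  let i' : (resD (𝟙 _)).obj N ≅ N := (resD (𝟙 _)).mapIso eN.symm ≪≫ (resDFac (𝟙 _)).app P ≪≫
    DerivedCategory.Q.mapIso ((NatIso.mapHomologicalComplex Scheme.Modules.restrictFunctorId _).app P ≪≫
      (Functor.mapHomologicalComplexIdIso _ _).app P) ≪≫ eN
  exact ⟨c ≪≫ d ≪≫ (resD (inv e)).mapIso ((resDRRBaseChange f V).app K ≪≫
      (asIso ((resDAdj e).counit.app M)).symm) ≪≫ d'.symm ≪≫ i ≪≫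
    i' ≪≫ (RRCompIso (f ∣_ V) e).app _⟩

end GrothLib.BCPerf20

namespace GrothLib.BCPerf20

open GrothLib.OX GrothLib.TorBC25

variable {X S T : Scheme.{u}}

/-- Direct images of relatively flat finitely presented modules with proper support are perfect. -/
theorem isPerfect_RR_inD (f : X ⟶ S) [LocallyOfFinitePresentation f] (F : X.Modules) (hF : CohB1.IsFP F)
    (hflat : FlatMod.IsFlatOver f F) (hsupp : ClSub.IsProperOver f (CohB1.support F)) :
    DCoh.IsPerfect ((RR f).obj (DCoh.inD X F)) := by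
  let K := (HomologicalComplex.single X.Modules (ComplexShape.up ℤ) 0).obj F
  haveI := hasLTensorCx K
  obtain ⟨u⟩ := SuppTens22.nonempty_ltensor_unit K
  refine OX.isPerfect_of_iso (isPerfect_RR_ltensorCx f K 0 0
    (fun i hi => HomologicalComplex.isZero_single_obj_X _ _ _ _ (by omega)) (fun i h1 h2 => ?_)
    (TorBC25.isPerfect_inD_structure X))
    ((RR f).mapIso (u ≪≫ ((DerivedCategory.singleFunctorIsoCompQ X.Modules 0).app F).symm))
  obtain rfl : i = 0 := le_antisymm h2 h1
  exact ⟨F, ⟨(HomologicalComplex.singleObjXSelf (ComplexShape.up ℤ) 0 F).symm⟩, hF, hflat, hsupp⟩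

/-- Derived pullback only depends on the morphism. -/
theorem nonempty_lpull_congr {Y : Scheme.{u}} {k k' : Y ⟶ X} (h : k = k') [DCoh.HasLpull k] [DCoh.HasLpull k']
    (K : DCoh.D X) : Nonempty ((DCoh.Lpull k).obj K ≅ (DCoh.Lpull k').obj K) := by
  subst h
  exact ⟨Iso.refl _⟩

/-- On affine charts the derived direct image commutes with base change. -/
theorem nonempty_lpull_chart (f : X ⟶ S) [QuasiCompact f] [IsSeparated f] (F : X.Modules) [F.IsQuasicoherent]
    (hflat : FlatMod.IsFlatOver f F) (g : T ⟶ S) {V : S.Opens} (hV : IsAffineOpen V) {W : T.Opens}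
    (hW : IsAffineOpen W) (hle : W ≤ g ⁻¹ᵁ V) [DCoh.HasLpull (hW.fromSpec ≫ g)] :
    Nonempty ((DCoh.Lpull (hW.fromSpec ≫ g)).obj ((RR f).obj (DCoh.inD X F)) ≅
      (resD hW.fromSpec).obj ((RR (pullback.snd f g)).obj
        (DCoh.inD (pullback f g) ((Scheme.Modules.pullback (pullback.fst f g)).obj F)))) := by
  let φ : Γ(S, V) →+* Γ(T, W) := (g.appLE V W hle).hom
  let s := specHom φ
  have hs : s ≫ hV.fromSpec = hW.fromSpec ≫ g := IsAffineOpen.SpecMap_appLE_fromSpec g hV hW hle
  let j := (f ⁻¹ᵁ V).ι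
  let fA := (f ∣_ V) ≫ hV.isoSpec.hom
  let fT := pullback.snd f g
  let jT := (fT ⁻¹ᵁ W).ι
  let fW := (fT ∣_ W) ≫ hW.isoSpec.hom
  have hA : IsPullback j fA f hV.fromSpec :=
    (isPullback_morphismRestrict f V).flip.of_iso (Iso.refl _) (Iso.refl _) hV.isoSpec (Iso.refl _)
      (by simp [j]) (by simp; rfl) (by simp) (by simp)
  have hT' : IsPullback jT fW fT hW.fromSpec :=
    (isPullback_morphismRestrict fT W).flip.of_iso (Iso.refl _) (Iso.refl _) hW.isoSpec (Iso.refl _)
      (by simp [jT]) (by simp; rfl) (by simp) (by simp)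
  have hbig : IsPullback (jT ≫ pullback.fst f g) fW f (s ≫ hV.fromSpec) := by
    rw [hs]
    exact hT'.paste_horiz (IsPullback.of_hasPullback f g)
  let q := hA.lift (jT ≫ pullback.fst f g) (fW ≫ s) (hbig.w.trans (Category.assoc _ _ _).symm)
  have hq₁ : q ≫ j = jT ≫ pullback.fst f g := hA.lift_fst _ _ _
  have hq : IsPullback q fW fA s :=
    IsPullback.of_right (by rw [hq₁]; exact hbig) (hA.lift_snd _ _ _) hA
  haveI : QuasiCompact (f ∣_ V) := IsZariskiLocalAtTarget.restrict ‹QuasiCompact f› V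
  haveI : IsSeparated (f ∣_ V) := IsZariskiLocalAtTarget.restrict ‹IsSeparated f› V
  let G := (Scheme.Modules.pullback j).obj F
  haveI : G.IsQuasicoherent := FittSheaf.isQuasicoherent_pullback j F
  haveI : DCoh.HasLpull s := hasLpull s
  haveI : DCoh.HasLpull hV.fromSpec := hasLpull _
  haveI : DCoh.HasLpull (s ≫ hV.fromSpec) := hasLpull _
  obtain ⟨bc⟩ := nonempty_lpull_RR_inD fA φ fW q hq G (FlatDesc.isFlatOver_baseChange hA F hflat)
  obtain ⟨l⟩ := SuppTens22.nonempty_lpull_openImmersion hV.fromSpec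
  obtain ⟨cS⟩ := nonempty_resD_fromSpec_RR f hV (DCoh.inD X F)
  obtain ⟨cT⟩ := nonempty_resD_fromSpec_RR fT hW (DCoh.inD (pullback f g) ((Scheme.Modules.pullback (pullback.fst f g)).obj F))
  obtain ⟨dS⟩ := nonempty_resD_inD j F
  obtain ⟨dT⟩ := nonempty_resD_inD jT ((Scheme.Modules.pullback (pullback.fst f g)).obj F)
  let m : (Scheme.Modules.pullback q).obj G ≅
      (Scheme.Modules.pullback jT).obj ((Scheme.Modules.pullback (pullback.fst f g)).obj F) :=
    (Scheme.Modules.pullbackComp q j).app F ≪≫ (Scheme.Modules.pullbackCongr hq₁).app F ≪≫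
      ((Scheme.Modules.pullbackComp jT (pullback.fst f g)).app F).symm
  obtain ⟨cc⟩ := nonempty_lpull_congr hs.symm ((RR f).obj (DCoh.inD X F))
  exact ⟨cc ≪≫ ((lpullCompIso s hV.fromSpec).app _).symm ≪≫
    (DCoh.Lpull s).mapIso (l.app _ ≪≫ cS ≪≫ (RR fA).mapIso dS) ≪≫ bc ≪≫
    (RR fW).mapIso ((DerivedCategory.singleFunctor _ 0).mapIso m ≪≫ dT.symm) ≪≫ cT.symm⟩

/-- The open locus where the direct image is a vector bundle in one degree. -/
theorem oneDeg_iff_range_subset (f : X ⟶ S) [IsProper f] [LocallyOfFinitePresentation f] (F : X.Modules)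
    (hF : CohB1.IsFP F) (hflat : FlatMod.IsFlatOver f F) (i : ℤ) (r : ℕ) (g : T ⟶ S) :
    Set.range g.base ⊆ (oneDegLocus ((RR f).obj (DCoh.inD X F)) i r : Set S) ↔
      OneDeg i r ((RR (pullback.snd f g)).obj
        (DCoh.inD (pullback f g) ((Scheme.Modules.pullback (pullback.fst f g)).obj F))) := by
  haveI : F.IsQuasicoherent := FibPd.isQuasicoherent_of_isFP hF
  haveI : CohB1.IsFP F := hF
  have hFT : CohB1.IsFT F := inferInstance
  have hcl : IsClosed (CohB1.support F) := by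
    have : CohB1.support F = ((Fitt.sheafIdeal F 0).support : Set X) := by
      ext x
      exact (not_iff_not.2 (IsoOpen28.subsingleton_stalk_iff hFT x)).trans not_not
    rw [this]
    exact (Fitt.sheafIdeal F 0).support.isClosed
  have hE : DCoh.IsPerfect ((RR f).obj (DCoh.inD X F)) := isPerfect_RR_inD f F hF hflat ⟨hcl, inferInstance⟩
  have cover : ∀ t : T, ∃ (V : S.Opens) (hV : IsAffineOpen V) (W : T.Opens) (hW : IsAffineOpen W),
      t ∈ W ∧ W ≤ g ⁻¹ᵁ V := fun t => by
    obtain ⟨V, hV, hgV, -⟩ := exists_isAffineOpen_mem_and_subset (x := g t) (U := ⊤) trivial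
    obtain ⟨W, hW, htW, hWV⟩ := exists_isAffineOpen_mem_and_subset (x := t) (U := g ⁻¹ᵁ V) hgV
    exact ⟨V, hV, W, hW, htW, hWV⟩
  constructor
  · intro h
    refine oneDeg_of_locally fun t => ?_
    obtain ⟨V, hV, W, hW, htW, hle⟩ := cover t
    haveI : DCoh.HasLpull (hW.fromSpec ≫ g) := hasLpull _
    obtain ⟨c⟩ := nonempty_lpull_chart f F hflat g hV hW hle
    refine ⟨_, hW.fromSpec, inferInstance, by rw [hW.range_fromSpec]; exact htW,
      (oneDeg_lpull_of_range (hW.fromSpec ≫ g) _ ?_).of_iso c⟩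
    rintro _ ⟨y, rfl⟩
    exact h ⟨hW.fromSpec y, by simp⟩
  · rintro h _ ⟨t, rfl⟩
    obtain ⟨V, hV, W, hW, htW, hle⟩ := cover t
    haveI : DCoh.HasLpull (hW.fromSpec ≫ g) := hasLpull _
    obtain ⟨c⟩ := nonempty_lpull_chart f F hflat g hV hW hle
    obtain ⟨y, hy⟩ : t ∈ Set.range hW.fromSpec.base := by rw [hW.range_fromSpec]; exact htW
    exact range_subset_of_oneDeg (hW.fromSpec ≫ g) hE ((h.restrict hW.fromSpec).of_iso c.symm)
      ⟨y, by simp [← hy]⟩

end GrothLib.BCPerf20
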