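import Groth.Agent.Lib.BCPerf20.Complex
import Groth.Agent.Lib.DerCat.Stupid
import Groth.Agent.Lib.Dual22.TensorShift
import Groth.Agent.Lib.OX.QCohCx
import Groth.Agent.Lib.FibPd.OpenScheme
import Groth.Agent.S1119

/-! # Direct images of pseudo-coherent objects tensored with bounded above complexes of relatively flat modules -/

set_option autoImplicit false
set_option maxHeartbeats 1000000
set_option linter.style.haveILetI false
set_option backward.isDefEq.respectTransparency false
universe u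

open CategoryTheory CategoryTheory.Limits CategoryTheory.Pretriangulated AlgebraicGeometry HomologicalComplex

attribute [local instance] HasDerivedCategory.standard

noncomputable section

namespace GrothLib.BCPerf20

open GrothLib.OX GrothLib.TorBC25

variable {X S : Scheme.{u}}

/-- The perfect case. -/
theorem isPseudoCoherentD_RR_ltensorCx_of_perfect (f : X ⟶ S) [LocallyOfFinitePresentation f] [QuasiCompact f]
    [QuasiSeparated f] [CompactSpace S] (G : CochainComplex X.Modules ℤ) [DCoh.HasLTensorCx G] (b : ℤ)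
    (hb : ∀ i, b < i → IsZero (G.X i)) (hG : ∀ i, CohB1.IsFP (G.X i)) (hflat : ∀ i, FlatMod.IsFlatOver f (G.X i))
    (hsupp : ∀ i, ClSub.IsProperOver f (CohB1.support (G.X i)))
    {E : DCoh.D X} (hE : DCoh.IsPerfect E) (m : ℤ) :
    DCoh.IsPseudoCoherentD m ((RR f).obj ((DCoh.LTensorCx G).obj E)) := by
  haveI : CompactSpace X := QuasiCompact.compactSpace_of_compactSpace f
  obtain ⟨N, hN⟩ := Groth.Agent.S1119.exists_bound_rres f
  obtain ⟨-, c, -, hc⟩ := exists_bounds hE
  obtain ⟨P, hP, ⟨eP⟩⟩ := exists_kflat_rep E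
  haveI := hasLTensorCx P
  let n : ℤ := min (m - c - N - 1) b
  let L₁ := DerCat.sGE G (n + 1)
  let L₃ := DerCat.sLE G n
  haveI := hasLTensorCx L₁
  haveI := hasLTensorCx L₃
  have hq : ∀ i, Coh.IsQCoh (L₃.X i) := fun i => by
    by_cases hi : i ≤ n
    · exact isQCoh_of_iso (DerCat.sLEXIso G hi).symm (FibPd.isQuasicoherent_of_isFP (hG i))
    · haveI := FibPd.isQuasicoherent_of_isFP (hG i)
      exact isQCoh_of_iso ((isZero_cokernel_of_epi (𝟙 (G.X i))).iso (DerCat.isZero_sLE G (by omega)))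
        (QCoh.isQuasicoherent_cokernel _)
  have val : ∀ (K : CochainComplex X.Modules ℤ) [DCoh.HasLTensorCx K],
      Nonempty ((DCoh.LTensorCx P).obj (DerivedCategory.Q.obj K) ≅ (DCoh.LTensorCx K).obj E) := fun K _ => by
    obtain ⟨v⟩ := ltensorCx_value_of_isKFlat P hP K
    obtain ⟨w⟩ := ltensorCx_value K P hP
    exact ⟨v ≪≫ DerivedCategory.Q.mapIso (tensorCxSymm _ _) ≪≫ w.symm ≪≫ (DCoh.LTensorCx K).mapIso eP⟩
  obtain ⟨a⟩ := val L₁
  obtain ⟨g⟩ := val G
  obtain ⟨z⟩ := val L₃
  obtain ⟨q, d, hd⟩ := SuppTens22.exists_triangle_ltensor P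
    (DerivedCategory.triangleOfSES_distinguished (DerCat.stupidSeq_shortExact G (n + 1)))
  haveI : (RR f).IsTriangulated := inferInstance
  have hT := (RR f).map_distinguished _ hd
  have h₁ : DCoh.IsPerfect ((RR f).obj ((DCoh.LTensorCx P).obj (DerivedCategory.Q.obj L₁))) := by
    refine OX.isPerfect_of_iso (isPerfect_RR_ltensorCx f L₁ (n + 1) b ?_ ?_ hE) ((RR f).mapIso a.symm)
    · intro i hi
      rcases hi with hi | hi
      · exact DerCat.isZero_sGE G hi
      · exact (hb i hi).of_iso (DerCat.sGEXIso G (by omega))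
    · exact fun i h1 _ => ⟨G.X i, ⟨(DerCat.sGEXIso G h1).symm⟩, hG i, hflat i, hsupp i⟩
  have hQ : DCoh.IsQCohD ((DCoh.LTensorCx L₃).obj E) :=
    Groth.Agent.S1062.result X L₃ (isQCohD_Q L₃ hq) _ (isQCohD_of_isPerfect hE)
  haveI := hc
  have h3 := hN _ _ hQ (isLE_ltensorCx L₃ (c := n) (fun i hi =>
    (HomologicalComplex.exactAt_iff_isZero_homology _ _).1 (ExactAt.of_isZero (DerCat.isZero_sLE G hi))) E c)
  haveI := h3
  have h3' : ((RR f).obj ((DCoh.LTensorCx L₃).obj E)).IsLE (m - 1) :=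
    DerivedCategory.TStructure.t.isLE_of_le _ (c + n + N) (m - 1) (by omega)
  have h₃ : DCoh.IsPseudoCoherentD m ((RR f).obj ((DCoh.LTensorCx L₃).obj E)) :=
    isPseudoCoherentD_iff.2 fun x => ⟨_, (⊤ : S.Opens).ι, inferInstance, ⟨⟨x, trivial⟩, rfl⟩,
      Approx.restrict (approx_of_isLE h3') _⟩
  have h₂ := (isPseudoCoherentD_triangle m hT).2.1 (isPseudoCoherentD_of_isPerfect h₁ m) ?_
  · exact isPseudoCoherentD_of_iso h₂ ((RR f).mapIso g)
  · let eq3 : (Triangle.mk ((DCoh.LTensorCx P).map (DerivedCategory.triangleOfSES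
        (DerCat.stupidSeq_shortExact G (n + 1))).mor₁) q d).obj₃ ≅ (DCoh.LTensorCx L₃).obj E :=
      (DCoh.LTensorCx P).mapIso (DerivedCategory.Q.mapIso (eqToIso (by simp [L₃, DerCat.stupidSeq, DerCat.sLE]))) ≪≫ z
    exact isPseudoCoherentD_of_iso h₃ ((RR f).mapIso eq3.symm)

/-- The case of an affine base. -/
theorem isPseudoCoherentD_RR_ltensorCx_affine {A : Type u} [CommRing A] (f : X ⟶ Spec (CommRingCat.of A))
    [LocallyOfFinitePresentation f] [QuasiCompact f] [QuasiSeparated f] (G : CochainComplex X.Modules ℤ)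
    [DCoh.HasLTensorCx G] (b : ℤ) (hb : ∀ i, b < i → IsZero (G.X i)) (hG : ∀ i, CohB1.IsFP (G.X i))
    (hflat : ∀ i, FlatMod.IsFlatOver f (G.X i)) (hsupp : ∀ i, ClSub.IsProperOver f (CohB1.support (G.X i)))
    {E : DCoh.D X} (hE : ∀ m : ℤ, DCoh.IsPseudoCoherentD m E) (m : ℤ) :
    DCoh.IsPseudoCoherentD m ((RR f).obj ((DCoh.LTensorCx G).obj E)) := by
  haveI : CompactSpace X := QuasiCompact.compactSpace_of_compactSpace f
  haveI : QuasiSeparatedSpace X := quasiSeparatedSpace_of_quasiSeparated f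
  haveI : DCoh.HasRpush f := KInj.hasRightDerivedFunctor _
  haveI : (DCoh.toD X G).IsLE b := (DerivedCategory.isLE_iff _ _).2 fun i hi =>
    ((HomologicalComplex.exactAt_iff_isZero_homology _ _).1 (ExactAt.of_isZero (hb i hi))).of_iso
      ((DerivedCategory.homologyFunctorFactors X.Modules i).app G)
  refine isPseudoCoherentD_of_iso (Groth.Agent.S1119.result A X f G
    (isQCohD_Q G fun i => FibPd.isQuasicoherent_of_isFP (hG i)) b (fun P hP k => ?_) E hE m)
    ((rpushIsoRres f).app _)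
  exact isPseudoCoherentD_of_iso (isPseudoCoherentD_RR_ltensorCx_of_perfect f G b hb hG hflat hsupp hP k)
    ((rpushIsoRres f).app _).symm

/-- **Direct images of pseudo-coherent objects tensored with bounded above complexes of relatively flat modules.** -/
theorem isPseudoCoherentD_RR_ltensorCx (f : X ⟶ S) [LocallyOfFinitePresentation f] [QuasiCompact f]
    [QuasiSeparated f] (G : CochainComplex X.Modules ℤ)
    [DCoh.HasLTensorCx G] (b : ℤ) (hb : ∀ i, b < i → IsZero (G.X i)) (hG : ∀ i, CohB1.IsFP (G.X i))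
    (hflat : ∀ i, FlatMod.IsFlatOver f (G.X i)) (hsupp : ∀ i, ClSub.IsProperOver f (CohB1.support (G.X i)))
    {E : DCoh.D X} (hE : ∀ m : ℤ, DCoh.IsPseudoCoherentD m E) (m : ℤ) :
    DCoh.IsPseudoCoherentD m ((RR f).obj ((DCoh.LTensorCx G).obj E)) := by
  refine isPseudoCoherentD_of_local fun s => ?_
  obtain ⟨V, hV, hsV, -⟩ := exists_isAffineOpen_mem_and_subset (x := s) (U := ⊤) trivial
  refine ⟨_, V.ι, inferInstance, by rw [Scheme.Opens.range_ι]; exact hsV, ?_⟩
  refine isPseudoCoherentD_of_iso ?_ ((resDRRBaseChange f V).app _).symm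
  let e := hV.isoSpec.hom
  let j := (f ⁻¹ᵁ V).ι
  let g := (f ∣_ V) ≫ e
  have hsq : IsPullback j g f (inv e ≫ V.ι) :=
    (isPullback_morphismRestrict f V).flip.of_iso (Iso.refl _) (Iso.refl _) (asIso e) (Iso.refl _)
      (by simp [j]) (by simp; rfl) (by simp) (by simp)
  let G' := (pullCxF j).obj G
  let G₀ := (resCx j).obj G
  haveI := hasLTensorCx G'
  haveI := hasLTensorCx G₀
  haveI : ∀ i, (G.X i).IsQuasicoherent := fun i => FibPd.isQuasicoherent_of_isFP (hG i)
  have hb' : ∀ i, b < i → IsZero (G'.X i) := fun i hi => (Scheme.Modules.pullback j).map_isZero (hb i hi)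
  have hG' : ∀ i, CohB1.IsFP (G'.X i) := fun i => FittSheaf.isFP_pullback j (G.X i) (hG i)
  have hflat' : ∀ i, FlatMod.IsFlatOver g (G'.X i) := fun i => FlatDesc.isFlatOver_baseChange hsq _ (hflat i)
  have hsupp' : ∀ i, ClSub.IsProperOver g (CohB1.support (G'.X i)) := fun i => by
    haveI : CohB1.IsFP (G'.X i) := hG' i
    haveI : (G'.X i).IsQuasicoherent := FibPd.isQuasicoherent_of_isFP (hG' i)
    refine ProperOver.IsProperOver.subset _
      (ProperOver.isProperOver_preimage_of_isPullback f (inv e ≫ V.ι) j g hsq (hsupp i)) ?_ fun y hy => ?_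
    · have : CohB1.support (G'.X i) = ((Fitt.sheafIdeal (G'.X i) 0).support : Set _) := by
        ext x
        exact (not_iff_not.2 (IsoOpen28.subsingleton_stalk_iff inferInstance x)).trans not_not
      rw [this]
      exact (Fitt.sheafIdeal (G'.X i) 0).support.isClosed
    · intro hy'
      exact hy (ModuleCat.isZero_iff_subsingleton.1 (IsZero.of_iso
        ((ModuleCat.extendScalars (j.stalkMap y).hom).map_isZero
          (ModuleCat.isZero_iff_subsingleton.2 hy')) ((pullStalkIso j y).app (G.X i))) :)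
  obtain ⟨r⟩ := Dual22.nonempty_resD_ltensorCx j G E
  obtain ⟨c⟩ := nonempty_ltensorCx_congr_of_iso (DerivedCategory.Q.mapIso ((resPullCxIso j).app G) :
    DerivedCategory.Q.obj G₀ ≅ DerivedCategory.Q.obj G')
  have h := isPseudoCoherentD_RR_ltensorCx_affine g G' b hb' hG' hflat' hsupp'
    (fun k => isPseudoCoherentD_resD (hE k) j) m
  have h' := isPseudoCoherentD_of_iso h ((RR g).mapIso (r ≪≫ c.app _).symm)
  exact isPseudoCoherentD_of_iso (isPseudoCoherentD_resD (isPseudoCoherentD_of_iso h' ((RRCompIso (f ∣_ V) e).app _).symm) e)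
    (asIso ((resDAdj e).counit.app ((RR (f ∣_ V)).obj _)))

end GrothLib.BCPerf20
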