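import Groth.Agent.Lib.BCPerf20.Reduce
import Groth.Agent.Lib.PC.Devissage

/-! # Direct images of perfect objects tensored with bounded complexes of relatively flat modules -/

set_option autoImplicit false
set_option maxHeartbeats 2000000
set_option linter.style.haveILetI false
set_option backward.isDefEq.respectTransparency false
universe u

open CategoryTheory CategoryTheory.Limits CategoryTheory.Pretriangulated AlgebraicGeometry HomologicalComplex

attribute [local instance] HasDerivedCategory.standard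

noncomputable section

namespace GrothLib.BCPerf20

open GrothLib.OX GrothLib.TorBC25

section Abstract

variable {C D : Type*} [Category C] [Preadditive C] [HasZeroObject C] [HasShift C ℤ]
  [∀ n : ℤ, (shiftFunctor C n).Additive] [Pretriangulated C]
  [Category D] [Preadditive D] [HasZeroObject D] [HasShift D ℤ]
  [∀ n : ℤ, (shiftFunctor D n).Additive] [Pretriangulated D]

/-- A thick class pulled back along a functor carrying triangles to triangles is stable under shifts. -/
theorem prop_shift_of_triangles (T : C ⥤ D) {P : D → Prop} (hP : TriCat.Thick P)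
    (h0 : ∀ {K : C}, IsZero K → IsZero (T.obj K))
    (htri : ∀ T' ∈ distTriang C, ∃ (q : T.obj T'.obj₂ ⟶ T.obj T'.obj₃) (d : T.obj T'.obj₃ ⟶ (T.obj T'.obj₁)⟦(1 : ℤ)⟧),
      Triangle.mk (T.map T'.mor₁) q d ∈ distTriang D)
    {K : C} (h : P (T.obj K)) (n : ℤ) : P (T.obj (K⟦n⟧)) := by
  have hup : ∀ A : C, P (T.obj A) → P (T.obj (A⟦(1 : ℤ)⟧)) := fun A hA => by
    obtain ⟨q, d, hd⟩ := htri _ (rot_of_distTriang _ (contractible_distinguished A))
    exact hP.cone _ hd hA (hP.zero (h0 (Limits.isZero_zero C)))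
  have hdown : ∀ A : C, P (T.obj (A⟦(1 : ℤ)⟧)) → P (T.obj A) := fun A hA => by
    obtain ⟨q, d, hd⟩ := htri _ (rot_of_distTriang _ (contractible_distinguished A))
    have h3 : P ((T.obj A)⟦(1 : ℤ)⟧) :=
      hP.cone _ (rot_of_distTriang _ hd) (hP.zero (h0 (Limits.isZero_zero C))) hA
    exact hP.of_iso ((shiftShiftNeg (T.obj A) (1 : ℤ))) (hP.shift (-1) h3)
  induction n with
  | zero => exact hP.of_iso (T.mapIso ((shiftFunctorZero C ℤ).app K).symm) h
  | succ i ih =>
    exact hP.of_iso (T.mapIso ((shiftFunctorAdd' C (i : ℤ) 1 (i + 1) rfl).app K).symm) (hup _ ih)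
  | pred i ih =>
    exact hdown _ (hP.of_iso (T.mapIso ((shiftFunctorAdd' C (-(i : ℤ) - 1) 1 (-i) (by omega)).app K)) ih)

end Abstract

/-- Dévissage by terms of a bounded complex. -/
theorem bounded_terms_induction {C : Type*} [Category C] [Abelian C] [HasDerivedCategory C] (Φ : DerivedCategory C → Prop)
    (hiso : ∀ {F G : DerivedCategory C}, (F ≅ G) → Φ F → Φ G)
    (hext : ∀ T : Triangle (DerivedCategory C), T ∈ distTriang _ → Φ T.obj₁ → Φ T.obj₃ → Φ T.obj₂)
    (lo : ℤ) (hbase : ∀ K : CochainComplex C ℤ, (∀ i, IsZero (K.X i)) → Φ (DerivedCategory.Q.obj K))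
    (K : CochainComplex C ℤ) (b : ℤ) (hb : ∀ i, b < i → IsZero (K.X i)) (ha : ∀ i, i < lo → IsZero (K.X i))
    (h : ∀ i, lo ≤ i → i ≤ b → ∀ Y : C, Nonempty (Y ≅ K.X i) → Φ ((DerivedCategory.singleFunctor C i).obj Y)) :
    Φ (DerivedCategory.Q.obj K) := by
  obtain ⟨k, hk⟩ : ∃ k : ℕ, b ≤ lo - 1 + k := ⟨(b - lo + 1).toNat, by omega⟩
  induction k generalizing b K with
  | zero => exact hbase K fun i ↦ if hi : i < lo then ha i hi else hb i (by omega)
  | succ k ih =>
    by_cases hlo : b < lo
    · exact hbase K fun i ↦ if hi : i < lo then ha i hi else hb i (by omega)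
    let ι : (HomologicalComplex.single C (ComplexShape.up ℤ) b).obj (K.X b) ⟶ K :=
      HomologicalComplex.mkHomFromSingle (𝟙 _) fun j hj ↦
        (hb j (by simp at hj; omega)).eq_of_tgt _ _
    have hι : ∀ i, Mono (ι.f i) := fun i ↦ by
      by_cases hi : i = b
      · subst hi
        simp only [ι, HomologicalComplex.mkHomFromSingle_f, Category.comp_id]
        infer_instance
      · exact ⟨fun {_} a b' _ ↦ (HomologicalComplex.isZero_single_obj_X (ComplexShape.up ℤ) b (K.X b) i hi).eq_of_tgt a b'⟩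
    have : Mono ι := HomologicalComplex.mono_of_mono_f ι hι
    have hS : (ShortComplex.mk ι (cokernel.π ι) (cokernel.condition ι)).ShortExact :=
      ShortComplex.ShortExact.mk' (ShortComplex.exact_cokernel ι) inferInstance inferInstance
    have hev := fun i ↦ hS.map_of_exact (HomologicalComplex.eval C (ComplexShape.up ℤ) i)
    have hne : ∀ i, i ≠ b → IsIso ((cokernel.π ι).f i) := fun i hi ↦
      (hev i).isIso_g_iff.2 (HomologicalComplex.isZero_single_obj_X (ComplexShape.up ℤ) b (K.X b) i hi)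
    have hbz : IsZero ((cokernel ι : CochainComplex C ℤ).X b) := (hev b).isIso_f_iff.1 (by
      show IsIso (ι.f b)
      simp only [ι, HomologicalComplex.mkHomFromSingle_f, Category.comp_id]
      infer_instance)
    refine hext _ (DerivedCategory.triangleOfSES_distinguished hS) ?_ (ih (cokernel ι) (b - 1) (fun i hi ↦ ?_)
      (fun i hi ↦ ?_) (fun i h1 h2 Y ⟨eY⟩ ↦ ?_) (by omega))
    · exact hiso (Iso.refl _) (h b (by omega) le_rfl _ ⟨Iso.refl _⟩)
    · by_cases hib : i = b
      · exact hib ▸ hbz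
      · have := hne i hib
        exact (hb i (by omega)).of_iso (asIso ((cokernel.π ι).f i)).symm
    · have := hne i (by omega)
      exact (ha i hi).of_iso (asIso ((cokernel.π ι).f i)).symm
    · have := hne i (by omega)
      exact h i h1 (by omega) Y ⟨eY ≪≫ (asIso ((cokernel.π ι).f i)).symm⟩

variable {X S : Scheme.{u}}

/-- **Direct images of a perfect object tensored with a bounded complex of finitely presented modules,
flat over the base and with proper support.** -/
theorem isPerfect_RR_ltensorCx (f : X ⟶ S) [LocallyOfFinitePresentation f] (K : CochainComplex X.Modules ℤ)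
    [DCoh.HasLTensorCx K] (a b : ℤ) (hb : DCoh.VanishesOutside K a b) (hK : ∀ i, a ≤ i → i ≤ b → ∃ G : X.Modules, Nonempty (G ≅ K.X i) ∧ CohB1.IsFP G ∧
      FlatMod.IsFlatOver f G ∧ ClSub.IsProperOver f (CohB1.support G))
    {E : DCoh.D X} (hE : DCoh.IsPerfect E) :
    DCoh.IsPerfect ((RR f).obj ((DCoh.LTensorCx K).obj E)) := by
  obtain ⟨P, hP, ⟨eP⟩⟩ := exists_kflat_rep E
  haveI := hasLTensorCx P
  have hPp : DCoh.IsPerfect (DerivedCategory.Q.obj P) := isPerfect_of_iso hE eP.symm
  let Φ : DCoh.D X → Prop := fun C => ∀ n : ℤ, DCoh.IsPerfect ((RR f).obj ((DCoh.LTensorCx P).obj (C⟦n⟧)))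
  have hΦ : TriCat.Thick Φ := thick_isPerfect_ltensor f P
  have hmod : ∀ G : X.Modules, CohB1.IsFP G → FlatMod.IsFlatOver f G →
      ClSub.IsProperOver f (CohB1.support G) → Φ ((DerivedCategory.singleFunctor X.Modules 0).obj G) := by
    intro G hG hGf hGs n
    refine prop_shift_of_triangles (DCoh.LTensorCx P) ((thick_isPerfect S).comap (RR f))
      (fun h => SuppTens22.isZero_ltensor P h) (fun _ h => SuppTens22.exists_triangle_ltensor P h) ?_ n
    let S0 := (HomologicalComplex.single X.Modules (ComplexShape.up ℤ) 0).obj G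
    obtain ⟨v⟩ := ltensorCx_value_of_isKFlat P hP S0
    exact isPerfect_of_iso (isPerfect_RR_ltensor f G hG hGf hGs P hP hPp) ((RR f).mapIso
      (DerivedCategory.Q.mapIso (singleIso P G ≪≫ tensorCxSymm _ _) ≪≫ v.symm ≪≫
        (DCoh.LTensorCx P).mapIso ((DerivedCategory.singleFunctorIsoCompQ X.Modules 0).app G).symm))
  have main : Φ (DerivedCategory.Q.obj K) := by
    refine bounded_terms_induction Φ (fun e h => hΦ.of_iso e h)
      (fun T hT h1 h3 => hΦ.cone _ (inv_rot_of_distTriang _ hT) (hΦ.shift (-1) h3) h1) a ?_ K b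
      (fun i hi => hb i (Or.inr hi)) (fun i hi => hb i (Or.inl hi)) ?_
    · intro L hL
      exact hΦ.zero (DerivedCategory.Q.map_isZero ((IsZero.iff_id_eq_zero L).2 (HomologicalComplex.hom_ext _ _ fun i => (hL i).eq_of_src _ _)))
    · intro i h1 h2 Y ⟨eY⟩
      obtain ⟨G, ⟨eG⟩, hGp, hGf, hGs⟩ := hK i h1 h2
      exact hΦ.of_iso (((DerivedCategory.singleFunctors X.Modules).shiftIso (-i) i 0 (by omega)).app G ≪≫
        (DerivedCategory.singleFunctor X.Modules i).mapIso (eG ≪≫ eY.symm)) (hΦ.shift (-i) (hmod _ hGp hGf hGs))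
  obtain ⟨v⟩ := ltensorCx_value_of_isKFlat P hP K
  obtain ⟨w⟩ := ltensorCx_value K P hP
  exact isPerfect_of_iso (main 0) ((RR f).mapIso ((DCoh.LTensorCx P).mapIso
    ((shiftFunctorZero (DCoh.D X) ℤ).app _) ≪≫ v ≪≫ DerivedCategory.Q.mapIso (tensorCxSymm _ _) ≪≫ w.symm ≪≫
    (DCoh.LTensorCx K).mapIso eP))

end GrothLib.BCPerf20
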