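import Groth.Agent.Lib.BCAcyc22.PullCompute
import Groth.Agent.Lib.BCAcyc22.Main
import Groth.Agent.Lib.OX.TildePerfect
import Groth.Agent.Lib.OX.AffinePush
import Groth.Agent.Lib.OX.AcyclicPush
import Groth.Agent.Lib.OX.RpushQCoh
import Groth.Agent.Lib.DCxRing.LBase

/-! # Perfectness of direct images is stable under base change, for relatively flat complexes -/

set_option autoImplicit false
set_option maxHeartbeats 1000000
set_option linter.style.haveILetI false
set_option backward.isDefEq.respectTransparency false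
universe u

open CategoryTheory CategoryTheory.Limits AlgebraicGeometry Opposite

attribute [local instance] HasDerivedCategory.standard

noncomputable section

namespace GrothLib.BCPerf20

open GrothLib.OX

variable {A : Type u} [CommRing A] {X : Scheme.{u}}

instance additive_moduleSpecΓ : (moduleSpecΓFunctor (R := CommRingCat.of A)).Additive :=
  (tilde.adjunction (R := CommRingCat.of A)).right_adjoint_additive

/-- A complex of quasi-coherent sheaves on the spectrum is associated to its global sections. -/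
def qcohTildeIso (C : CochainComplex (Spec (CommRingCat.of A)).Modules ℤ) (h : ∀ i, Coh.IsQCoh (C.X i)) :
    ((tilde.functor (CommRingCat.of A)).mapHomologicalComplex (ComplexShape.up ℤ)).obj
      (((moduleSpecΓFunctor (R := CommRingCat.of A)).mapHomologicalComplex (ComplexShape.up ℤ)).obj C) ≅ C :=
  let η := Scheme.Modules.fromTildeΓNatTrans (R := CommRingCat.of A)
  HomologicalComplex.Hom.isoOfComponents
    (fun i => @asIso _ _ _ _ (η.app (C.X i))
      (@Scheme.Modules.isIso_fromTildeΓ_of_isQuasicoherent _ (C.X i) (h i)))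
    (fun i j _ => (η.naturality (C.d i j)).symm)

variable (f : X ⟶ Spec (CommRingCat.of A)) [QuasiCompact f] [IsSeparated f] [HTor.HasRΓA f]

/-- `Rf_*` to an affine base is associated to `RΓ`. -/
theorem nonempty_RR_iso_tildeD (T : CochainComplex X.Modules ℤ) (hq : ∀ i, Coh.IsQCoh (T.X i)) :
    Nonempty ((RR f).obj (DerivedCategory.Q.obj T) ≅
      (DCoh.tildeD (CommRingCat.of A)).obj ((HTor.RΓA f).obj (DerivedCategory.Q.obj T))) := by
  haveI : CompactSpace X := QuasiCompact.compactSpace_of_compactSpace f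
  obtain ⟨κ, _, V, hV, -, hcov⟩ := QCoh.exists_finite_affine_cover (U := (⊤ : X.Opens))
    (by simpa using isCompact_univ)
  obtain ⟨m, ⟨eκ⟩⟩ := Finite.exists_equiv_fin κ
  let U : Fin (m + 1) → X.Opens := Fin.cases ⊥ fun i => V (eκ.symm i)
  have hU : ∀ i, IsAffineOpen (U i) := fun i => by
    cases i using Fin.cases with
    | zero => exact isAffineOpen_bot X
    | succ i => exact hV _
  have hcovU : ⨆ i, U i = ⊤ := top_le_iff.1 <| hcov.trans (iSup_le fun k =>
    le_iSup_of_le (Fin.succ (eκ k)) (by simp [U]))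
  obtain ⟨s, T', v, -, hT, -, -, hv, -⟩ :=
    BCAcyc22.exists_acyclic f m U hU hcovU False T hq (fun h => h.elim) (D := X.Modules)
  haveI := hv
  let C := ((Scheme.Modules.pushforward f).mapHomologicalComplex (ComplexShape.up ℤ)).obj T'
  let Γc := ((HTor.globalSectionsA f).mapHomologicalComplex (ComplexShape.up ℤ)).obj T'
  obtain ⟨eT⟩ := BCAcyc22.computes f T' (fun n => (hT n).1) (fun n => (hT n).2.2)
  let q := DerivedCategory.quotientCompQhIso X.Modules
  have hu : IsIso (pushUnit f T') := isIso_pushUnit_of_acyclic f T' (fun n => (hT n).1)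
    fun n => BCAcyc22.isAcyclicObj_of_vanishFrom f _ (hT n).1 (hT n).2.2
  have hC : ∀ i, Coh.IsQCoh (C.X i) := fun i =>
    haveI : (T'.X i).IsQuasicoherent := (hT i).1
    QCoh.isQuasicoherent_pushforward f (T'.X i)
  let e₁ : (RR f).obj (DerivedCategory.Q.obj T') ≅ DerivedCategory.Q.obj C :=
    (RR f).mapIso (q.app T').symm ≪≫ (@asIso _ _ _ _ (pushUnit f T') hu).symm ≪≫
      (DerivedCategory.quotientCompQhIso _).app C
  let w : DerivedCategory.Q.obj T' ≅ DerivedCategory.Q.obj T := (asIso (DerivedCategory.Q.map v)).symm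
  exact ⟨(RR f).mapIso w.symm ≪≫ e₁ ≪≫
    DerivedCategory.Q.mapIso (qcohTildeIso C hC).symm ≪≫
    ((tilde.functor (CommRingCat.of A)).mapDerivedCategoryFactors.app _).symm ≪≫
    (DCoh.tildeD (CommRingCat.of A)).mapIso
      (show DerivedCategory.Q.obj Γc ≅ _ from eT ≪≫ (HTor.RΓA f).mapIso w)⟩

variable {B : Type u} [CommRing B] (φ : A →+* B) {X' : Scheme.{u}} (f' : X' ⟶ Spec (CommRingCat.of B))
  (g : X' ⟶ X) (H : IsPullback g f' f (Spec.map (CommRingCat.ofHom φ)))

omit [HTor.HasRΓA f] in
include H in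
/-- **Perfectness of direct images of relatively flat complexes is stable under base change.** -/
theorem isPerfect_RR_pull (T : CochainComplex X.Modules ℤ) (hq : ∀ i, Coh.IsQCoh (T.X i))
    (b : ℤ) (hb : ∀ i, b < i → IsZero (T.X i)) (hfl : ∀ i, FlatMod.IsFlatOver f (T.X i))
    (hperf : DCoh.IsPerfect ((RR f).obj (DerivedCategory.Q.obj T))) :
    DCoh.IsPerfect ((RR f').obj (DerivedCategory.Q.obj ((HTor.pullCx g).obj T))) := by
  haveI : QuasiCompact f' := MorphismProperty.of_isPullback H (inferInstanceAs (QuasiCompact f))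
  haveI : IsSeparated f' := MorphismProperty.of_isPullback H (inferInstanceAs (IsSeparated f))
  haveI : HTor.HasRΓA f := KInj.hasRightDerivedFunctor (A := X.Modules) _
  haveI : HTor.HasRΓA f' := KInj.hasRightDerivedFunctor (A := X'.Modules) _
  haveI : CompactSpace X := QuasiCompact.compactSpace_of_compactSpace f
  obtain ⟨κ, _, V, hV, -, hcov⟩ := QCoh.exists_finite_affine_cover (U := (⊤ : X.Opens))
    (by simpa using isCompact_univ)
  obtain ⟨m, ⟨eκ⟩⟩ := Finite.exists_equiv_fin κ
  let U : Fin (m + 1) → X.Opens := Fin.cases ⊥ fun i => V (eκ.symm i)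
  have hU : ∀ i, IsAffineOpen (U i) := fun i => by
    cases i using Fin.cases with
    | zero => exact isAffineOpen_bot X
    | succ i => exact hV _
  have hcovU : ⨆ i, U i = ⊤ := top_le_iff.1 <| hcov.trans (iSup_le fun k =>
    le_iSup_of_le (Fin.succ (eκ k)) (by simp [U]))
  obtain ⟨L₀, ⟨e₀⟩, -, hL₀⟩ := BCAcyc22.exists_computes f m U hU hcovU T hq
  obtain ⟨L, u, hfree, hz, hu⟩ := BCAcyc22.exists_free_resolution L₀ (b + m + 1) fun i hi => hL₀ b hb i (by omega)
  haveI := hu
  have hLp : ∀ i, Module.Projective A (L.X i) := fun i =>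
    haveI := hfree i
    Module.Projective.of_free
  have hLc : DRing.VanishesAbove L (b + m + 1) := fun i hi => hz i (by omega)
  have e : HTor.Computes f L (DCoh.toD X T) := ⟨asIso (DerivedCategory.Q.map u) ≪≫ e₀⟩
  obtain ⟨r⟩ := nonempty_RR_iso_tildeD f T hq
  obtain ⟨eL⟩ := e
  have hL : DRing.IsPerfect A (DRing.toD L) :=
    (isPerfect_tildeD_iff (A := A) _).1 (isPerfect_of_iso hperf
      (r ≪≫ (DCoh.tildeD (CommRingCat.of A)).mapIso eL.symm))
  obtain ⟨e'⟩ := BCAcyc22.computes_baseChange φ f f' g H T hq ⟨b, hb⟩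
    (fun i => BCAcyc22.affFlat_of_isFlatOver f _ (hq i) (hfl i)) L
    (fun i => (IsProjective.iff_projective (R := A) (L.X i)).1 (hLp i)) ⟨_, hLc⟩ ⟨eL⟩
  haveI : DRing.HasLBaseChange φ := (leftResolvable_baseChange φ).hasLeftDerivedFunctor
  obtain ⟨l⟩ := DR.nonempty_lBase_iso φ hLc (GrothLib.DR.termwiseFlat_of_projective hLp)
  obtain ⟨r'⟩ := nonempty_RR_iso_tildeD f' ((HTor.pullCx g).obj T) (fun i =>
    haveI : (T.X i).IsQuasicoherent := hq i
    FittSheaf.isQuasicoherent_pullback g (T.X i))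
  have hB : DRing.IsPerfect B (DRing.toD (CohIII.bcCx φ L)) := by
    obtain ⟨E, a', b', h1, h2, ⟨h3⟩⟩ := GrothLib.DR.isPerfect_lBase φ hL
    exact ⟨E, a', b', h1, h2, ⟨h3 ≪≫ l⟩⟩
  exact isPerfect_of_iso ((isPerfect_tildeD_iff (A := B) _).2 hB)
    ((DCoh.tildeD (CommRingCat.of B)).mapIso e' ≪≫ r'.symm)

end GrothLib.BCPerf20
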