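import Groth.Agent.Lib.BCPerf20.QCohRep
import Groth.Agent.Lib.BCPerf20.Core
import Groth.Agent.Lib.TorBC25.Perfect
import Groth.Agent.Lib.SuppTens22.Basic
import Groth.Agent.Lib.VA.Tensor
import Groth.Agent.Lib.ModDesc.Approx
import Groth.Agent.Lib.OX.RHomRestrict

/-! # Direct images of a perfect object tensored with a relatively flat module, proper morphisms -/

set_option autoImplicit false
set_option maxHeartbeats 1000000
set_option linter.style.haveILetI false
set_option backward.isDefEq.respectTransparency false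
universe u

open CategoryTheory CategoryTheory.Limits CategoryTheory.Pretriangulated AlgebraicGeometry HomologicalComplex

attribute [local instance] HasDerivedCategory.standard

noncomputable section

namespace GrothLib.BCPerf20

open GrothLib.OX GrothLib.TorBC25

variable {X Y S : Scheme.{u}}

/-- A perfect object on a quasi-compact scheme is bounded. -/
theorem exists_bounds [CompactSpace X] {K : DCoh.D X} (hK : DCoh.IsPerfect K) :
    ∃ a b : ℤ, K.IsGE a ∧ K.IsLE b := by
  have hloc : ∀ x : X, ∃ (V : X.Opens) (a b : ℤ), x ∈ V ∧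
      ∀ j, (j < a ∨ b < j) → CohB1.support (DCoh.HD K j) ⊆ (V : Set X)ᶜ := fun x => by
    obtain ⟨V, E, hx, ⟨⟨a, b, hab⟩, -⟩, ⟨e⟩⟩ :=
      (isPerfect_iff_rep (DerivedCategory.Q.objObjPreimageIso K)).1 hK x
    refine ⟨V.ι.opensRange, a, b, by rw [Scheme.Opens.opensRange_ι]; exact hx, fun j hj => ?_⟩
    refine support_subset_of_isZero_HD_resD V.ι ?_
    exact ((((HomologicalComplex.exactAt_iff_isZero_homology _ _).1
      (HomologicalComplex.ExactAt.of_isZero (hab j hj))).of_iso (hdIso E j)).of_iso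
        ((DerivedCategory.homologyFunctor _ j).mapIso
          ((resD V.ι).mapIso (DerivedCategory.Q.objObjPreimageIso K).symm ≪≫ (resDFac V.ι).app _ ≪≫ e)))
  choose V a b hxV hb using hloc
  obtain ⟨T, hT⟩ := isCompact_univ.elim_finite_subcover (fun x => (V x : Set X)) (fun x => (V x).isOpen)
    fun x _ => Set.mem_iUnion.2 ⟨x, hxV x⟩
  classical
  obtain ⟨A, hA⟩ := (T.image a).bddBelow
  obtain ⟨B, hB⟩ := (T.image b).bddAbove
  have hz : ∀ j, (j < A ∨ B < j) → IsZero (DCoh.HD K j) := fun j hj =>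
    OX.isZero_of_subsingleton_stalks _ fun y => by
      by_contra hy
      obtain ⟨x, hxT, hyx⟩ := Set.mem_iUnion₂.1 (hT (Set.mem_univ y))
      refine hb x j ?_ hy hyx
      rcases hj with h | h
      · exact Or.inl (lt_of_lt_of_le h (hA (Finset.mem_coe.2 (Finset.mem_image_of_mem a hxT))))
      · exact Or.inr (lt_of_le_of_lt (hB (Finset.mem_coe.2 (Finset.mem_image_of_mem b hxT))) h)
  exact ⟨A, B, (DerivedCategory.isGE_iff _ _).2 fun j hj => hz j (Or.inl hj),
    (DerivedCategory.isLE_iff _ _).2 fun j hj => hz j (Or.inr hj)⟩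

section Abstract

variable {C D : Type*} [Category C] [Preadditive C] [HasZeroObject C] [HasShift C ℤ]
  [∀ n : ℤ, (shiftFunctor C n).Additive] [Pretriangulated C] [HasBinaryBiproducts C]
  [Category D] [Preadditive D] [HasZeroObject D] [HasShift D ℤ]
  [∀ n : ℤ, (shiftFunctor D n).Additive] [Pretriangulated D]

/-- Inverse image of a thick class under a functor carrying triangles to triangles. -/
theorem thick_of_triangles (T : C ⥤ D) {P : D → Prop} (hP : TriCat.Thick P)
    (h0 : ∀ {K : C}, IsZero K → IsZero (T.obj K))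
    (htri : ∀ T' ∈ distTriang C, ∃ (q : T.obj T'.obj₂ ⟶ T.obj T'.obj₃) (d : T.obj T'.obj₃ ⟶ (T.obj T'.obj₁)⟦(1 : ℤ)⟧),
      Triangle.mk (T.map T'.mor₁) q d ∈ distTriang D) :
    TriCat.Thick (fun K : C => ∀ n : ℤ, P (T.obj (K⟦n⟧))) := by
  have hcone : ∀ T' ∈ distTriang C, (∀ n : ℤ, P (T.obj (T'.obj₁⟦n⟧))) →
      (∀ n : ℤ, P (T.obj (T'.obj₂⟦n⟧))) → ∀ n : ℤ, P (T.obj (T'.obj₃⟦n⟧)) := fun T' hT' h₁ h₂ n => by
    obtain ⟨q, d, hd⟩ := htri _ (Triangle.shift_distinguished T' hT' n)
    exact hP.cone _ hd (h₁ n) (h₂ n)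
  have hshift : ∀ {K : C} (n : ℤ), (∀ m : ℤ, P (T.obj (K⟦m⟧))) → ∀ m : ℤ, P (T.obj ((K⟦n⟧)⟦m⟧)) :=
    fun n h m => hP.of_iso (T.mapIso ((shiftFunctorAdd C n m).app _)) (h (n + m))
  refine ⟨fun h n => hP.zero (h0 ((shiftFunctor _ n).map_isZero h)), fun n h => hshift n h, ?_, hcone⟩
  intro A B E i₁ p₁ i₂ p₂ h hA hB n
  have hAB : ∀ m : ℤ, P (T.obj ((A ⊞ B)⟦m⟧)) :=
    hcone _ (inv_rot_of_distTriang _ (binaryBiproductTriangle_distinguished A B)) (hshift (-1) hB) hA
  let s : E ⟶ A ⊞ B := biprod.lift p₁ p₂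
  let r : A ⊞ B ⟶ E := biprod.desc i₁ i₂
  have hsr : s ≫ r = 𝟙 E := by rw [biprod.lift_desc, h]
  exact hP.retract (T.map (s⟦n⟧')) (T.map (r⟦n⟧'))
    (by rw [← T.map_comp, ← Functor.map_comp, hsr, CategoryTheory.Functor.map_id, CategoryTheory.Functor.map_id])
    (hAB n)

end Abstract

/-- The objects whose shifts stay perfect after tensoring and pushing forward form a thick class. -/
theorem thick_isPerfect_ltensor (f : X ⟶ S) (E : CochainComplex X.Modules ℤ) [DCoh.HasLTensorCx E] :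
    TriCat.Thick (fun K : DCoh.D X => ∀ n : ℤ, DCoh.IsPerfect ((RR f).obj ((DCoh.LTensorCx E).obj (K⟦n⟧)))) := by
  exact thick_of_triangles (DCoh.LTensorCx E) ((thick_isPerfect S).comap (RR f))
    (fun h => SuppTens22.isZero_ltensor E h) (fun _ h => SuppTens22.exists_triangle_ltensor E h)

/-- The value of `- ⊗^L G` through complexes. -/
theorem nonempty_ltensor_single_value (G : X.Modules)
    [DCoh.HasLTensorCx ((HomologicalComplex.single X.Modules (ComplexShape.up ℤ) 0).obj G)]
    (P : CochainComplex X.Modules ℤ) (hP : DCoh.IsKFlat P) :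
    Nonempty ((DCoh.LTensorCx ((HomologicalComplex.single X.Modules (ComplexShape.up ℤ) 0).obj G)).obj
      (DerivedCategory.Q.obj P) ≅ DerivedCategory.Q.obj ((tensorModCx G).obj P)) := by
  obtain ⟨v⟩ := ltensorCx_value ((HomologicalComplex.single X.Modules (ComplexShape.up ℤ) 0).obj G) P hP
  exact ⟨v ≪≫ DerivedCategory.Q.mapIso (singleIso P G).symm⟩

/-- The two derived tensor products with a module agree. -/
theorem nonempty_ltensorMod_iso (G : X.Modules) [DCoh.HasLTensorMod G]
    [DCoh.HasLTensorCx ((HomologicalComplex.single X.Modules (ComplexShape.up ℤ) 0).obj G)] (E : DCoh.D X) :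
    Nonempty ((DCoh.LTensorMod G).obj E ≅
      (DCoh.LTensorCx ((HomologicalComplex.single X.Modules (ComplexShape.up ℤ) 0).obj G)).obj E) := by
  obtain ⟨P, hP, ⟨e⟩⟩ := exists_kflat_rep E
  obtain ⟨v⟩ := ltensor_value G P hP
  obtain ⟨w⟩ := nonempty_ltensor_single_value G P hP
  exact ⟨(DCoh.LTensorMod G).mapIso e.symm ≪≫ v ≪≫ w.symm ≪≫ (DCoh.LTensorCx _).mapIso e⟩

/-- The affine case. -/
theorem isPerfect_RR_ltensor_affine {A : Type u} [CommRing A] (f : X ⟶ Spec (CommRingCat.of A)) [IsProper f]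
    [LocallyOfFinitePresentation f] (G : X.Modules) [G.IsQuasicoherent] (hG : CohB1.IsFP G)
    (hflat : FlatMod.IsFlatOver f G) [DCoh.HasLTensorMod G] {E : DCoh.D X} (hE : DCoh.IsPerfect E) :
    DCoh.IsPerfect ((RR f).obj ((DCoh.LTensorMod G).obj E)) := by
  obtain ⟨A₀, hA₀, X₀, p, q, F₀, hp, hF₀, hfl₀, H, ⟨e⟩⟩ := ModDesc.exists_noetherian_approximation A f G hG hflat
  haveI := hA₀
  haveI := hp
  let π := Spec.map (CommRingCat.ofHom (algebraMap A₀ A))
  haveI : IsAffineHom π := isAffineHom_of_isAffine π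
  haveI : IsAffineHom q := MorphismProperty.of_isPullback H.flip ‹IsAffineHom π›
  haveI : IsNoetherian (Spec (CommRingCat.of A₀)) := inferInstance
  haveI : CompactSpace X := QuasiCompact.compactSpace_of_compactSpace f
  haveI : QuasiSeparatedSpace X := quasiSeparatedSpace_of_quasiSeparated f
  haveI : CompactSpace X₀ := QuasiCompact.compactSpace_of_compactSpace p
  haveI : IsLocallyNoetherian X₀ := LocallyOfFiniteType.isLocallyNoetherian p
  haveI : X₀.IsSeparated := ⟨by rw [← terminal.comp_from p]; infer_instance⟩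
  haveI := hasLpull q
  haveI : DCoh.HasRpush q := KInj.hasRightDerivedFunctor _
  obtain ⟨a'⟩ := nonempty_lpullAdj q
  let adjg' : DCoh.Lpull q ⊣ RR q := a'.ofNatIsoRight (rpushIsoRres q)
  letI := lpullCommShift q adjg'
  let Gc := (HomologicalComplex.single X.Modules (ComplexShape.up ℤ) 0).obj G
  haveI := hasLTensorCx Gc
  -- the key case: pull backs of perfect objects
  have key : ∀ E₀ : DCoh.D X₀, DCoh.IsPerfect E₀ →
      DCoh.IsPerfect ((RR f).obj ((DCoh.LTensorCx Gc).obj ((DCoh.Lpull q).obj E₀))) := by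
    intro E₀ hE₀
    obtain ⟨a, b, ha, hb⟩ := exists_bounds hE₀
    obtain ⟨P, c, hc, hP, ⟨eP⟩⟩ := exists_flat_qcoh_rep E₀ (isQCohD_of_isPerfect hE₀) a b
    have hPK : DCoh.IsKFlat P := isKFlat_of_bounded_above P c hc fun i => (hP i).2
    let T := (tensorModCx F₀).obj P
    have hTq : ∀ i, Coh.IsQCoh (T.X i) := fun i => VA.isQCoh_tensor (hP i).1 hF₀.1
    have hTf : ∀ i, FlatMod.IsFlatOver p (T.X i) := fun i x => RpushPerf25.flatOverAt_tensor p (hP i).2 hfl₀ x
    have hTb : ∀ i, c < i → IsZero (T.X i) := fun i hi =>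
      ((DCoh.tensorBi (X := X₀)).flip.obj F₀).map_isZero (hc i hi)
    have hT : DCoh.IsPerfect ((RR p).obj (DerivedCategory.Q.obj T)) := by
      haveI : DCoh.HasRpush p := KInj.hasRightDerivedFunctor _
      haveI := hasLTensorMod F₀
      obtain ⟨v⟩ := ltensor_value F₀ P hPK
      refine isPerfect_of_iso (RpushPerf25.isPerfect_Rpush_ltensor p F₀
        (isPerfect_of_iso hE₀ eP.symm) hF₀ hfl₀ ?_) ((rpushIsoRres p).app _ ≪≫ (RR p).mapIso v)
      exact ⟨QCoh.isClosed_support_of_isCoh hF₀, inferInstance⟩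
    haveI : HTor.HasRΓA p := KInj.hasRightDerivedFunctor (A := X₀.Modules) _
    have h := isPerfect_RR_pull p (algebraMap A₀ A) f q H T hTq c hTb hTf hT
    let Pq := (pullCxF q).obj P
    obtain ⟨lp⟩ := lpull_value q P hPK
    obtain ⟨w⟩ := nonempty_ltensor_single_value G Pq (isKFlat_pullback q hPK)
    let eT : (HTor.pullCx q).obj T ≅ (tensorModCx G).obj Pq :=
      HomologicalComplex.Hom.isoOfComponents
        (fun i => pullTensorIso q (P.X i) F₀ ≪≫ ((DCoh.tensorBi (X := X)).obj _).mapIso e)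
        (fun i j _ => by
          have h1 := pullTensorIso_natural₁ q (P.d i j) F₀
          have h2 := ((DCoh.tensorBi (X := X)).map ((Scheme.Modules.pullback q).map (P.d i j))).naturality e.hom
          refine (Category.assoc _ _ _).trans ((congrArg (_ ≫ ·) h2).trans ?_)
          exact (Category.assoc _ _ _).symm.trans ((congrArg (· ≫ _) h1.symm).trans (Category.assoc _ _ _)))
    exact isPerfect_of_iso h ((RR f).mapIso (DerivedCategory.Q.mapIso eT ≪≫ w.symm ≪≫
      (DCoh.LTensorCx Gc).mapIso (lp.symm ≪≫ (DCoh.Lpull q).mapIso eP)))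
  obtain ⟨G₀, hG₀, -, hgen₀⟩ := hasGen_of_qcqs X₀ ⊥ (by simp)
  have main : ∀ n : ℤ, DCoh.IsPerfect ((RR f).obj ((DCoh.LTensorCx Gc).obj (E⟦n⟧))) := by
    refine prop_of_generator (G := (DCoh.Lpull q).obj G₀) (isPerfect_lpull q hG₀) (fun C hC hC0 => ?_)
      (thick_isPerfect_ltensor f Gc) (fun n => ?_) hE
    · have hz : IsZero ((RR q).obj C) := by
        refine hgen₀ _ (isQCohD_Rres q C hC) ((isZero_resD_iff_support _ _).2 fun i x _ hx => ?_) fun n φ => ?_
        · rw [Scheme.Opens.range_ι] at hx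
          exact hx.elim
        · refine (adjg'.homEquiv _ _).symm.injective ?_
          have h1 := hC0 n (((DCoh.Lpull q).commShiftIso n).inv.app G₀ ≫ (adjg'.homEquiv _ _).symm φ)
          have h2 : (adjg'.homEquiv _ _).symm φ = 0 :=
            (cancel_epi (((DCoh.Lpull q).commShiftIso n).inv.app G₀)).1 (h1.trans comp_zero.symm)
          haveI : PreservesColimitsOfSize.{0, 0} (DCoh.Lpull q) := adjg'.leftAdjoint_preservesColimits
          haveI : (DCoh.Lpull q).Additive := adjg'.left_adjoint_additive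
          rw [h2, Adjunction.homEquiv_counit, Functor.map_zero, zero_comp]
      refine isZero_of_support_empty fun i => Set.eq_empty_iff_forall_notMem.2 fun x hx => hx ?_
      exact AddCommGrpCat.subsingleton_of_isZero ((Scheme.Modules.toPresheaf X ⋙
        TopCat.Presheaf.stalkFunctor Ab.{u} x).map_isZero (isZero_of_isZero_Rres q hC hz i))
    · exact isPerfect_of_iso (key _ (isPerfect_shift hG₀ n))
        ((RR f).mapIso ((DCoh.LTensorCx Gc).mapIso (((DCoh.Lpull q).commShiftIso n).app G₀)))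
  obtain ⟨w⟩ := nonempty_ltensorMod_iso G E
  exact isPerfect_of_iso (main 0) ((RR f).mapIso ((DCoh.LTensorCx Gc).mapIso
    ((shiftFunctorZero (DCoh.D X) ℤ).app E) ≪≫ w.symm))

end GrothLib.BCPerf20
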