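import Groth.Agent.S7769
import Groth.Agent.Lib.QCohCat20.General
import Groth.Agent.Lib.FlatQuot.Basic
import Groth.Agent.Lib.KSix19.StalkAmp
import Groth.Agent.Lib.ExtVanishReg20.Main
import Mathlib.CategoryTheory.Abelian.Injective.Extend
import Mathlib.CategoryTheory.Abelian.Injective.Resolution
import Mathlib.CategoryTheory.Preadditive.Injective.Preserves
import Mathlib.Algebra.Homology.DerivedCategory.KInjective

/-! # Flat quasi-coherent representatives of bounded objects with quasi-coherent cohomology -/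

set_option autoImplicit false
set_option maxHeartbeats 1000000
set_option linter.style.haveILetI false
set_option backward.isDefEq.respectTransparency false
universe u

open CategoryTheory CategoryTheory.Limits CategoryTheory.Pretriangulated AlgebraicGeometry HomologicalComplex

attribute [local instance] HasDerivedCategory.standard

noncomputable section

namespace GrothLib.BCPerf20

variable {X : Scheme.{u}}

/-- Represented by a bounded below complex of injective quasi-coherent modules. -/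
def InjRep (K : DCoh.D X) : Prop :=
  ∃ (W : CochainComplex X.Modules ℤ) (a : ℤ), W.IsStrictlyGE a ∧ (∀ i, Coh.IsQCoh (W.X i) ∧ Injective (W.X i)) ∧
    Nonempty (DerivedCategory.Q.obj W ≅ K)

theorem isQCoh_biprod {F G : X.Modules} (hF : Coh.IsQCoh F) (hG : Coh.IsQCoh G) : Coh.IsQCoh (F ⊞ G) := by
  let S := ShortComplex.mk (biprod.inl : F ⟶ F ⊞ G) biprod.snd biprod.inl_snd
  have hS : S.ShortExact :=
    (ShortComplex.Splitting.mk (S := S) biprod.fst biprod.inr (by simp [S]) (by simp [S]) (by simp [S])).shortExact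
  haveI : S.X₁.IsQuasicoherent := hF
  haveI : S.X₃.IsQuasicoherent := hG
  exact QCoh.isQuasicoherent_X₂ hS

variable [IsLocallyNoetherian X]

theorem injRep_of_isZero {K : DCoh.D X} (h : IsZero K) : InjRep K := by
  haveI : HasZeroObject (CochainComplex X.Modules ℤ) := inferInstance
  let W : CochainComplex X.Modules ℤ := HomologicalComplex.zero
  have hW : IsZero W := HomologicalComplex.isZero_zero
  refine ⟨W, 0, (CochainComplex.isStrictlyGE_iff _ _).2 fun i _ => ?_, fun i => ?_,
    ⟨(DerivedCategory.Q.map_isZero hW).iso h⟩⟩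
  · exact (HomologicalComplex.eval _ _ i).map_isZero hW
  · have hz : IsZero (W.X i) := (HomologicalComplex.eval _ _ i).map_isZero hW
    exact ⟨OX.isQCoh_of_isZero hz, hz.injective⟩

theorem injRep_single (Y : X.Modules) (hY : Coh.IsQCoh Y) (n : ℤ) :
    InjRep ((DerivedCategory.singleFunctor X.Modules n).obj Y) := by
  haveI := QCohCat20.enoughInjectives_general X
  let ι := (QCohCat.isQCoh X).ι
  haveI : ι.PreservesInjectiveObjects := ⟨fun {J} hJ => Groth.Agent.S7769.result X J hJ⟩
  haveI := QCohCat20.preservesFiniteLimits_ι (X := X)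
  let Y' : QCohCat.QCoh X := ⟨Y, hY⟩
  obtain ⟨R⟩ := (inferInstance : HasInjectiveResolution Y').out
  let C := R.cochainComplex
  let W₀ := (ι.mapHomologicalComplex (ComplexShape.up ℤ)).obj C
  haveI : PreservesFiniteColimits ι :=
    haveI : ∀ {A B : QCohCat.QCoh X} (f : A ⟶ B), PreservesColimit (parallelPair f 0) ι :=
      fun {A B} f => (QCohCat.isQCoh X).preservesCokernels_ι f
    Functor.preservesFiniteColimits_of_preservesCokernels _
  let φ : (HomologicalComplex.single X.Modules (ComplexShape.up ℤ) 0).obj Y ⟶ W₀ :=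
    ((HomologicalComplex.singleMapHomologicalComplex ι (ComplexShape.up ℤ) 0).app Y').inv ≫
      (ι.mapHomologicalComplex (ComplexShape.up ℤ)).map R.ι'
  haveI : QuasiIso ((ι.mapHomologicalComplex (ComplexShape.up ℤ)).map R.ι') := inferInstance
  haveI : QuasiIso φ := quasiIso_comp _ _
  let W : CochainComplex X.Modules ℤ := W₀⟦-n⟧
  refine ⟨W, n, (CochainComplex.isStrictlyGE_iff _ _).2 fun i hi => ?_, fun i => ?_, ⟨?_⟩⟩
  · exact ι.map_isZero (CochainComplex.isZero_of_isStrictlyGE C 0 (i + -n) (by omega))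
  · exact ⟨(C.X (i + -n)).property, Functor.PreservesInjectiveObjects.injective_obj (F := ι) inferInstance⟩
  · exact (DerivedCategory.Q.commShiftIso (-n)).app W₀ ≪≫
      (shiftFunctor (DCoh.D X) (-n)).mapIso ((asIso (DerivedCategory.Q.map φ)).symm ≪≫
        ((DerivedCategory.singleFunctorIsoCompQ X.Modules 0).app Y).symm) ≪≫
      (SingleFunctors.shiftIso (DerivedCategory.singleFunctors X.Modules) (-n) n 0 (by omega)).app Y

theorem injRep_ext₂ (T : Triangle (DCoh.D X)) (hT : T ∈ distTriang _) (h₁ : InjRep T.obj₁) (h₃ : InjRep T.obj₃) :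
    InjRep T.obj₂ := by
  obtain ⟨W₁, a₁, ha₁, hW₁, ⟨e₁⟩⟩ := h₁
  obtain ⟨W₃, a₃, ha₃, hW₃, ⟨e₃⟩⟩ := h₃
  haveI := ha₁
  haveI := ha₃
  haveI : ∀ i, Injective (W₁.X i) := fun i => (hW₁ i).2
  haveI := CochainComplex.isKInjective_of_injective W₁ a₁
  let S : CochainComplex X.Modules ℤ := W₃⟦(-1 : ℤ)⟧
  let eS : DerivedCategory.Q.obj S ≅ T.invRotate.obj₁ :=
    (DerivedCategory.Q.commShiftIso (-1 : ℤ)).app W₃ ≪≫ (shiftFunctor (DCoh.D X) (-1 : ℤ)).mapIso e₃
  let q := DerivedCategory.quotientCompQhIso X.Modules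
  obtain ⟨w, hw⟩ := (CochainComplex.IsKInjective.Qh_map_bijective
    ((HomotopyCategory.quotient _ _).obj S) W₁).2
    (q.hom.app S ≫ (eS.hom ≫ T.invRotate.mor₁ ≫ e₁.inv) ≫ q.inv.app W₁)
  obtain ⟨g, rfl⟩ := (HomotopyCategory.quotient _ _).map_surjective w
  have hg : DerivedCategory.Q.map g = eS.hom ≫ T.invRotate.mor₁ ≫ e₁.inv := by
    rw [← cancel_epi (q.hom.app S)]
    refine (q.hom.naturality g).symm.trans ((congrArg (· ≫ _) hw).trans ?_)
    simp
  let i := isoTriangleOfIso₁₂ (DerivedCategory.Q.mapTriangle.obj (CochainComplex.mappingCone.triangle g))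
    T.invRotate (DerivedCategory.mappingCone_triangle_distinguished g) (inv_rot_of_distTriang _ hT) eS e₁
    (show DerivedCategory.Q.map g ≫ e₁.hom = eS.hom ≫ T.invRotate.mor₁ by
      refine (congrArg (· ≫ e₁.hom) hg).trans ?_
      exact (Category.assoc _ _ _).trans (congrArg (eS.hom ≫ ·) ((Category.assoc _ _ _).trans ((congrArg (T.invRotate.mor₁ ≫ ·) e₁.inv_hom_id).trans (Category.comp_id _)))))
  have hS : ∀ i, Coh.IsQCoh (S.X i) ∧ Injective (S.X i) := fun i => hW₃ (i + -1)
  refine ⟨CochainComplex.mappingCone g, min a₁ a₃, (CochainComplex.isStrictlyGE_iff _ _).2 fun k hk => ?_,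
    fun k => ?_, ⟨Triangle.π₃.mapIso i⟩⟩
  · refine ((biprod_isZero_iff _ _).2 ⟨?_, ?_⟩).of_iso (HomologicalComplex.homotopyCofiber.XIsoBiprod g k (k + 1) rfl)
    · exact CochainComplex.isZero_of_isStrictlyGE W₃ a₃ (k + 1 + -1) (by omega)
    · exact CochainComplex.isZero_of_isStrictlyGE W₁ a₁ k (by omega)
  · let x := HomologicalComplex.homotopyCofiber.XIsoBiprod g k (k + 1) rfl
    haveI : Injective (S.X (k + 1)) := (hS _).2
    haveI : Injective (W₁.X k) := (hW₁ k).2
    exact ⟨OX.isQCoh_of_iso x.symm (isQCoh_biprod (hS _).1 (hW₁ k).1), Injective.of_iso x.symm inferInstance⟩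

/-- **Bounded objects with quasi-coherent cohomology have quasi-coherent representatives.** -/
theorem exists_qcoh_rep (E : DCoh.D X) (hE : DCoh.IsQCohD E) (a b : ℤ) [E.IsGE a] [E.IsLE b] :
    ∃ W : CochainComplex X.Modules ℤ, (∀ i, Coh.IsQCoh (W.X i)) ∧ Nonempty (DerivedCategory.Q.obj W ≅ E) := by
  obtain ⟨W, -, -, hW, e⟩ := ExtVanishReg20.bounded_induction (C := X.Modules) InjRep
    (fun T hT h₁ h₃ => injRep_ext₂ T hT h₁ h₃)
    (fun F hF => injRep_of_isZero (by
      have hiso : IsIso (0 : F ⟶ F) := (DerivedCategory.isIso_iff _ _).2 fun i =>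
        ⟨0, (hF i).eq_of_src _ _, (hF i).eq_of_src _ _⟩
      exact (IsZero.iff_id_eq_zero F).2 ((cancel_epi (0 : F ⟶ F)).1 (by simp))))
    E a b (fun i hi => DerivedCategory.isZero_of_isGE E a i hi) (fun i hi => DerivedCategory.isZero_of_isLE E b i hi)
    (fun i _ _ Y ⟨eY⟩ => injRep_single Y (OX.isQCoh_of_iso eY.symm (hE i)) i)
  exact ⟨W, fun i => (hW i).1, e⟩

variable [CompactSpace X] [X.IsSeparated]

open ZeroObject in
/-- **Flat quasi-coherent representatives.** -/
theorem exists_flat_qcoh_rep (E : DCoh.D X) (hE : DCoh.IsQCohD E) (a b : ℤ) [E.IsGE a] [E.IsLE b] :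
    ∃ (P : CochainComplex X.Modules ℤ) (c : ℤ), (∀ i, c < i → IsZero (P.X i)) ∧
      (∀ i, Coh.IsQCoh (P.X i) ∧ FlatMod.IsFlat (P.X i)) ∧ Nonempty (DerivedCategory.Q.obj P ≅ E) := by
  obtain ⟨W, hW, ⟨eW⟩⟩ := exists_qcoh_rep E hE a b
  haveI := QCohCat20.preservesFiniteLimits_ι (X := X)
  let ι := (QCohCat.isQCoh X).ι
  haveI : PreservesFiniteColimits ι :=
    haveI : ∀ {A B : QCohCat.QCoh X} (f : A ⟶ B), PreservesColimit (parallelPair f 0) ι :=
      fun {A B} f => (QCohCat.isQCoh X).preservesCokernels_ι f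
    Functor.preservesFiniteColimits_of_preservesCokernels _
  let F : CochainComplex (QCohCat.QCoh X) ℤ :=
    { X := fun i => ⟨W.X i, hW i⟩
      d := fun i j => ObjectProperty.homMk (W.d i j)
      shape := fun i j h => ObjectProperty.hom_ext _ (W.shape i j h)
      d_comp_d' := fun i j k _ _ => ObjectProperty.hom_ext _ (W.d_comp_d i j k) }
  let eF : (ι.mapHomologicalComplex (ComplexShape.up ℤ)).obj F ≅ W :=
    HomologicalComplex.Hom.isoOfComponents (fun _ => Iso.refl _)
      (fun _ _ _ => (Category.id_comp _).trans (Category.comp_id _).symm)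
  haveI : (DerivedCategory.Q.obj F).IsLE b := (DerivedCategory.isLE_iff _ _).2 fun i hi => by
    haveI : (DerivedCategory.Q.obj W).IsLE b := DerivedCategory.TStructure.t.isLE_of_iso eW.symm b
    refine IsZero.of_iso ?_ ((DerivedCategory.homologyFunctorFactors (QCohCat.QCoh X) i).app F)
    have h0 : IsZero (W.homology i) :=
      (DerivedCategory.isZero_of_isLE (DerivedCategory.Q.obj W) b i hi).of_iso
        ((DerivedCategory.homologyFunctorFactors X.Modules i).app W).symm
    have h1 : IsZero (ι.obj ((HomologicalComplex.homologyFunctor (QCohCat.QCoh X) (ComplexShape.up ℤ) i).obj F)) :=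
      (h0.of_iso ((HomologicalComplex.homologyFunctor _ _ i).mapIso eF)).of_iso
        ((F.sc i).mapHomologyIso ι).symm
    exact (IsZero.iff_id_eq_zero _).2 (ι.map_injective (h1.eq_of_src _ _))
  let P : ObjectProperty (QCohCat.QCoh X) := fun M => FlatMod.IsFlat M.obj
  haveI : P.IsClosedUnderIsomorphisms := ⟨fun e h => OX.flat_of_iso (ι.mapIso e) h⟩
  haveI : P.ContainsZero :=
    ⟨⟨0, isZero_zero _, OX.flat_of_isZero (ι.map_isZero (isZero_zero _))⟩⟩
  haveI : PreservesBinaryBiproducts ι := preservesBinaryBiproducts_of_preservesBiproducts ι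
  have hsum : ∀ A B : QCohCat.QCoh X, P A → P B → P (A ⨯ B) := fun A B hA hB =>
    OX.flat_of_iso (ι.mapIso (biprod.isoProd A B)) (OX.flat_of_iso (ι.mapBiprod A B).symm
      (OX.flat_biprod hA hB))
  have hd : ∀ V V' : X.Opens, IsAffineOpen V → IsAffineOpen V' → IsAffineOpen (V ⊓ V') := fun V V' h h' => h.inf h'
  have hft : ∀ M : QCohCat.QCoh X, PCoh.IsOfFiniteType P M := fun M => by
    haveI : M.obj.IsQuasicoherent := M.property
    obtain ⟨G, p, hGq, hGf, hp⟩ := FlatQuot.exists_flat_epi hd M.obj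
    let p' : (⟨G, hGq⟩ : QCohCat.QCoh X) ⟶ M := ObjectProperty.homMk p
    haveI : Epi (ι.map p') := hp
    exact ⟨⟨G, hGq⟩, p', hGf, Functor.epi_of_epi_map ι ‹Epi (ι.map p')›⟩
  have hql : PCoh.IsQuasiLiftable P := fun A B g hg _ => by
    obtain ⟨G, p, hG, hp⟩ := hft A
    exact ⟨G, p, hG, @epi_comp _ _ _ _ _ p hp g hg⟩
  have hcoh : ∀ (A B : QCohCat.QCoh X) (g : B ⟶ A), P A → P B → PCoh.IsOfFiniteType P (kernel g) :=
    fun _ _ _ _ _ => hft _
  have hqs := GrothLib.PC.isQuasiStable_of_coherent P hcoh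
  obtain ⟨P', s, ⟨⟨c, hc⟩, hfl⟩, hs⟩ := GrothLib.PC.exists_strictAll_quasiIso P hsum hqs hql (F := F)
    fun m => (GrothLib.PC.pcn_iff_coherent_homology P hsum hql hcoh (b := b) fun i hi =>
      DerivedCategory.isZero_of_isLE _ b i hi).2 ⟨hft _, fun i _ => ⟨hft _, fun _ _ _ => hft _⟩⟩
  haveI := hs
  haveI : QuasiIso ((ι.mapHomologicalComplex (ComplexShape.up ℤ)).map s) := inferInstance
  exact ⟨(ι.mapHomologicalComplex (ComplexShape.up ℤ)).obj P', c, fun i hi => ι.map_isZero (hc i hi),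
    fun i => ⟨(P'.X i).property, hfl i⟩,
    ⟨asIso (DerivedCategory.Q.map ((ι.mapHomologicalComplex (ComplexShape.up ℤ)).map s)) ≪≫
      DerivedCategory.Q.mapIso eF ≪≫ eW⟩⟩

end GrothLib.BCPerf20
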