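import Groth.Agent.Lib.BCPerf20.Proper
import Groth.Agent.Lib.IsoOpen28.Support
import Groth.Agent.Lib.AbsApprox.ClosedApprox
import Groth.Agent.Lib.FittSheaf.PullbackFP
import Groth.Agent.Lib.QCoh.ClosedImmersion
import Groth.Agent.Lib.ProperOver.Basic
import Groth.Agent.Lib.OX.ProjClosed
import Groth.Agent.Lib.OX.RRComp
import Groth.Agent.Lib.RelVan7.Transfer

/-! # Direct images of perfect objects tensored with flat modules with proper support -/

set_option autoImplicit false
set_option maxHeartbeats 1000000
set_option linter.style.haveILetI false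
set_option backward.isDefEq.respectTransparency false
universe u

open CategoryTheory CategoryTheory.Limits CategoryTheory.Pretriangulated AlgebraicGeometry HomologicalComplex

attribute [local instance] HasDerivedCategory.standard

noncomputable section

namespace GrothLib.BCPerf20

open GrothLib.OX GrothLib.TorBC25

variable {X Z S : Scheme.{u}}

/-- A module whose direct image is flat over the base is flat over the base. -/
theorem flatOver_of_push (i : Z ⟶ X) [IsClosedImmersion i] (p : X ⟶ S) {G : Z.Modules}
    (hflat : FlatMod.IsFlatOver p ((Scheme.Modules.pushforward i).obj G)) : FlatMod.IsFlatOver (i ≫ p) G := by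
  intro x
  letI : Module (S.presheaf.stalk (p (i x))) (G.presheaf.stalk x) := FlatMod.moduleStalkOver (i ≫ p) G x
  letI := FlatMod.moduleStalkOver p ((Scheme.Modules.pushforward i).obj G) (i x)
  letI : Module (X.presheaf.stalk (i x)) (G.presheaf.stalk x) := Module.compHom _ (i.stalkMap x).hom
  let e : ((Scheme.Modules.pushforward i).obj G).presheaf.stalk (i x) ≃ₗ[X.presheaf.stalk (i x)]
      G.presheaf.stalk x := ((OX.pushStalkIso i x).app G).toLinearEquiv
  show Module.Flat (S.presheaf.stalk (p (i x))) (G.presheaf.stalk x)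
  haveI : Module.Flat (S.presheaf.stalk (p (i x))) (((Scheme.Modules.pushforward i).obj G).presheaf.stalk (i x)) :=
    hflat (i x)
  let e' : ((Scheme.Modules.pushforward i).obj G).presheaf.stalk (i x) ≃ₗ[S.presheaf.stalk (p (i x))]
      G.presheaf.stalk x :=
    { e.toAddEquiv with
      map_smul' := fun s m => by
        refine (e.map_smul ((p.stalkMap (i x)).hom s) m).trans ?_
        change (i.stalkMap x).hom ((p.stalkMap (i x)).hom s) • e m = ((i ≫ p).stalkMap x).hom s • e m
        rw [Scheme.Hom.stalkMap_comp]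
        rfl }
  exact Module.Flat.of_linearEquiv e'.symm

/-- A finitely presented module with proper support is a direct image from a proper closed subscheme
of finite presentation. -/
theorem exists_proper_model (f : X ⟶ S) [LocallyOfFinitePresentation f] (G : X.Modules) [G.IsQuasicoherent]
    (hG : CohB1.IsFP G) (hflat : FlatMod.IsFlatOver f G) (hsupp : ClSub.IsProperOver f (CohB1.support G)) :
    ∃ (Z : Scheme.{u}) (i : Z ⟶ X) (GZ : Z.Modules), IsClosedImmersion i ∧
      LocallyOfFinitePresentation (i ≫ f) ∧ IsProper (i ≫ f) ∧ GZ.IsQuasicoherent ∧ CohB1.IsFP GZ ∧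
      FlatMod.IsFlatOver (i ≫ f) GZ ∧ Nonempty ((Scheme.Modules.pushforward i).obj GZ ≅ G) := by
  haveI : CohB1.IsFP G := hG
  have hFT : CohB1.IsFT G := inferInstance
  let J := Fitt.sheafIdeal G 0
  haveI : LocallyOfFinitePresentation J.subschemeι := AbsApprox.lfp_subschemeι J fun U => by
    rw [FittSheaf.sheafIdeal_ideal hFT]
    haveI := FlatFP.finitePresentation_sections G hG U.2
    exact Fitting.ideal_fg 0
  have hrange : Set.range J.subschemeι = CohB1.support G := by
    rw [Scheme.IdealSheafData.range_subschemeι]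
    ext x
    exact (not_iff_not.2 (IsoOpen28.subsingleton_stalk_iff hFT x)).trans not_not |>.symm
  have hk : ClSub.KilledByIdeal J.subschemeι.ker G := by
    intro U a ha m
    rw [Scheme.IdealSheafData.ker_subschemeι, FittSheaf.sheafIdeal_ideal hFT] at ha
    haveI := FittSheaf.finite_sections hFT U
    exact Module.mem_annihilator.1 (Fitting.ideal_zero_le_annihilator ha) m
  haveI := QCoh.isIso_unit_of_killed J.subschemeι G hk
  let GZ := (Scheme.Modules.pullback J.subschemeι).obj G
  let e : (Scheme.Modules.pushforward J.subschemeι).obj GZ ≅ G :=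
    (asIso ((Scheme.Modules.pullbackPushforwardAdjunction J.subschemeι).unit.app G)).symm
  refine ⟨_, J.subschemeι, GZ, inferInstance, inferInstance,
    ProperOver.isProper_of_isProperOver f J.subschemeι (hrange ▸ hsupp),
    FittSheaf.isQuasicoherent_pullback _ G, FittSheaf.isFP_pullback _ G hG,
    flatOver_of_push J.subschemeι f ?_, ⟨e⟩⟩
  intro x
  letI := FlatMod.moduleStalkOver f G x
  letI := FlatMod.moduleStalkOver f ((Scheme.Modules.pushforward J.subschemeι).obj GZ) x
  haveI : Module.Flat (S.presheaf.stalk (f x)) (G.presheaf.stalk x) := hflat x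
  let e1 : ((Scheme.Modules.pushforward J.subschemeι).obj GZ).presheaf.stalk x ≃ₗ[X.presheaf.stalk x]
      G.presheaf.stalk x := ((OX.stalk x).mapIso e).toLinearEquiv
  let e2 : ((Scheme.Modules.pushforward J.subschemeι).obj GZ).presheaf.stalk x ≃ₗ[S.presheaf.stalk (f x)]
      G.presheaf.stalk x :=
    { e1.toAddEquiv with map_smul' := fun s m => e1.map_smul ((f.stalkMap x).hom s) m }
  exact Module.Flat.of_linearEquiv e2

/-- Pullback and termwise tensoring with a module. -/
def pullTensorModIso {U : Scheme.{u}} (g : U ⟶ X) (G : X.Modules) (P : CochainComplex X.Modules ℤ) :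
    (pullCxF g).obj ((tensorModCx G).obj P) ≅
      (tensorModCx ((Scheme.Modules.pullback g).obj G)).obj ((pullCxF g).obj P) :=
  HomologicalComplex.Hom.isoOfComponents (fun n => pullTensorIso g (P.X n) G)
    fun n m _ => (pullTensorIso_natural₁ g (P.d n m) G).symm

/-- The projection formula, termwise, along a closed immersion. -/
def projTensorModIso (i : Z ⟶ X) [IsClosedImmersion i] (GZ : Z.Modules) (P : CochainComplex X.Modules ℤ) :
    (tensorModCx ((Scheme.Modules.pushforward i).obj GZ)).obj P ≅
      ((Scheme.Modules.pushforward i).mapHomologicalComplex (ComplexShape.up ℤ)).obj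
        ((tensorModCx GZ).obj ((pullCxF i).obj P)) :=
  HomologicalComplex.Hom.isoOfComponents
    (fun n => @asIso _ _ _ _ (ProjFormula.projHom i (P.X n) GZ) (isIso_projHom_closed i _ _))
    fun n m _ => (ProjFormula.projHom_natural (f := i) (P.d n m) GZ).symm

/-- The reduction to a proper closed subscheme: the affine case. -/
theorem isPerfect_RR_ltensor_affine' {A : Type u} [CommRing A] (f : X ⟶ Spec (CommRingCat.of A))
    [LocallyOfFinitePresentation f] (G : X.Modules) [G.IsQuasicoherent] (hG : CohB1.IsFP G)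
    (hflat : FlatMod.IsFlatOver f G) (hsupp : ClSub.IsProperOver f (CohB1.support G))
    (P : CochainComplex X.Modules ℤ) (hP : DCoh.IsKFlat P) (hPp : DCoh.IsPerfect (DerivedCategory.Q.obj P)) :
    DCoh.IsPerfect ((RR f).obj (DerivedCategory.Q.obj ((tensorModCx G).obj P))) := by
  obtain ⟨Z, i, GZ, _, _, _, _, hGZ, hflatZ, ⟨eG⟩⟩ := exists_proper_model f G hG hflat hsupp
  haveI := hasLpull i
  haveI := hasLTensorMod GZ
  obtain ⟨lp⟩ := lpull_value i P hP
  obtain ⟨v⟩ := ltensor_value GZ _ (isKFlat_pullback i hP)
  have h := isPerfect_RR_ltensor_affine (i ≫ f) GZ hGZ hflatZ (isPerfect_lpull i hPp)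
  let B := (tensorModCx GZ).obj ((pullCxF i).obj P)
  haveI := isIso_pushUnit_closed i B
  let eT : (tensorModCx G).obj P ≅ _ :=
    (NatIso.mapHomologicalComplex ((DCoh.tensorBi (X := X)).flip.mapIso eG.symm) (ComplexShape.up ℤ)).app P ≪≫
      projTensorModIso i GZ P
  let eB : DerivedCategory.Q.obj (((Scheme.Modules.pushforward i).mapHomologicalComplex (ComplexShape.up ℤ)).obj B) ≅
      (RR i).obj (DerivedCategory.Q.obj B) :=
    asIso (pushUnit i B)
  exact isPerfect_of_iso h (((RRCompIso i f).app _).symm ≪≫ (RR f).mapIso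
    ((RR i).mapIso ((DCoh.LTensorMod GZ).mapIso lp ≪≫ v) ≪≫ eB.symm ≪≫ DerivedCategory.Q.mapIso eT.symm))

/-- **Direct images of perfect objects tensored with flat modules with proper support.** -/
theorem isPerfect_RR_ltensor (f : X ⟶ S) [LocallyOfFinitePresentation f] (G : X.Modules) (hG : CohB1.IsFP G)
    (hflat : FlatMod.IsFlatOver f G) (hsupp : ClSub.IsProperOver f (CohB1.support G))
    (P : CochainComplex X.Modules ℤ) (hP : DCoh.IsKFlat P) (hPp : DCoh.IsPerfect (DerivedCategory.Q.obj P)) :
    DCoh.IsPerfect ((RR f).obj (DerivedCategory.Q.obj ((tensorModCx G).obj P))) := by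
  haveI : CohB1.IsFP G := hG
  haveI : G.IsQuasicoherent := inferInstance
  refine isPerfect_of_local fun s => ?_
  obtain ⟨V, hV, hsV, -⟩ := exists_isAffineOpen_mem_and_subset (x := s) (U := ⊤) trivial
  refine ⟨_, V.ι, inferInstance, by rw [Scheme.Opens.range_ι]; exact hsV, ?_⟩
  refine isPerfect_of_iso ?_ ((resDRRBaseChange f V).app _).symm
  let e := hV.isoSpec.hom
  let j := (f ⁻¹ᵁ V).ι
  let G' := (Scheme.Modules.pullback j).obj G
  haveI : G'.IsQuasicoherent := FittSheaf.isQuasicoherent_pullback j G
  have hG' : CohB1.IsFP G' := FittSheaf.isFP_pullback j G hG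
  have hsq : IsPullback j ((f ∣_ V) ≫ e) f (inv e ≫ V.ι) :=
    (isPullback_morphismRestrict f V).flip.of_iso (Iso.refl _) (Iso.refl _) (asIso e) (Iso.refl _)
      (by simp [j]) (by simp) (by simp) (by simp)
  have hflat'' : FlatMod.IsFlatOver ((f ∣_ V) ≫ e) G' := FlatDesc.isFlatOver_baseChange hsq G hflat
  have hsupp' : ClSub.IsProperOver ((f ∣_ V) ≫ e) (CohB1.support G') := by
    haveI : CohB1.IsFP G' := hG'
    refine ProperOver.IsProperOver.subset _
      (ProperOver.isProperOver_preimage_of_isPullback f (inv e ≫ V.ι) j ((f ∣_ V) ≫ e) hsq hsupp) ?_ fun y hy => ?_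
    · have : CohB1.support G' = ((Fitt.sheafIdeal G' 0).support : Set _) := by
        ext x
        exact (not_iff_not.2 (IsoOpen28.subsingleton_stalk_iff inferInstance x)).trans not_not
      rw [this]
      exact (Fitt.sheafIdeal G' 0).support.isClosed
    · intro hy'
      exact hy (ModuleCat.isZero_iff_subsingleton.1 (IsZero.of_iso
        ((ModuleCat.extendScalars (j.stalkMap y).hom).map_isZero
          (ModuleCat.isZero_iff_subsingleton.2 hy')) ((pullStalkIso j y).app G)) :)
  let P' := (pullCxF j).obj P
  have hP' : DCoh.IsKFlat P' := isKFlat_pullback j hP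
  have hPp' : DCoh.IsPerfect (DerivedCategory.Q.obj P') :=
    isPerfect_of_iso (isPerfect_resD hPp j) ((resDFac j).app P ≪≫ DerivedCategory.Q.mapIso ((resPullCxIso j).app P))
  have h := isPerfect_RR_ltensor_affine' (A := Γ(S, V)) ((f ∣_ V) ≫ e) G' hG' hflat'' hsupp' P' hP' hPp'
  have h' := isPerfect_of_iso h ((RR _).mapIso (DerivedCategory.Q.mapIso (pullTensorModIso j G P).symm ≪≫
    DerivedCategory.Q.mapIso ((resPullCxIso j).app _).symm ≪≫ ((resDFac j).app _).symm))
  exact isPerfect_of_iso (isPerfect_resD (isPerfect_of_iso h' ((RRCompIso (f ∣_ V) e).app _).symm) e)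
    (asIso ((resDAdj e).counit.app ((RR (f ∣_ V)).obj _)))

end GrothLib.BCPerf20
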